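import Mathlib
import Cfsg.Agent.H25.Defs8
import Cfsg.Agent.H25.PF2
import Cfsg.Agent.H25.PF5b
import Cfsg.Agent.H25.PF8_b
import Cfsg.Agent.BG.C16

/-!
PF section 8: interface between the local analysis (BG section 16, the closed instance `BG.closedT16`) and the character theory.
The statements are in `H25.PF8_a` (type-P and type F data in any finite group) and `H25.PF8_b` (the `ft_*` facts).
-/
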