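import Mathlib
import Cfsg.Agent.H02.PPrimeCore
import Cfsg.Agent.H08.Dihedral

/-!
# `A₅` acting on a group of order 16; a class 3 subgroup of `A₈` (helper25)
-/

set_option autoImplicit false
set_option linter.unusedSectionVars false
open Cfsg Subgroup Equiv MulAction

namespace H25.AE

abbrev A5 := alternatingGroup (Fin 5)

theorem card5 : Nat.card A5 = 60 := by rw [nat_card_alternatingGroup]; simp [Nat.factorial]

theorem a5_gen : ∀ g : A5, g ^ 5 ≠ 1 → ∃ k : A5, g * (k * g * k⁻¹) ≠ 1 ∧ (g * (k * g * k⁻¹)) ^ 5 = 1 := by decide +kernel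

theorem a5_sum : ∑ g : A5, (if g = 1 then 16 else if g ^ 5 = 1 then 1 else 4) = 180 := by decide +kernel

theorem a5_inv : ∀ a : A5, a * a = 1 → a ≠ 1 → ∀ b : A5, b * b = 1 → b ≠ 1 → ∃ k : A5, k * a * k⁻¹ = b := by decide +kernel

theorem a5_four : ∀ a : A5, a ^ 64 = 1 → a * a = 1 := by decide +kernel

section act
variable {X : Type*} [Group X] [Finite X] [MulDistribMulAction A5 X]

/-- the fixed points of `g`. -/
def fx (X : Type*) [Group X] [MulDistribMulAction A5 X] (g : A5) : Subgroup X :=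
  (MulDistribMulAction.toMonoidHom X g).eqLocus (MonoidHom.id X)

theorem mem_fx {g : A5} {x : X} : x ∈ fx X g ↔ g • x = x := Iff.rfl

variable (hX : Nat.card X = 16) (hf : ∀ g : A5, (∀ x : X, g • x = x) → g = 1)
include hX hf

theorem fix5 {g : A5} (h1 : g ≠ 1) (h5 : g ^ 5 = 1) : fx X g = ⊥ := by
  haveI : Fact (Nat.Prime 5) := ⟨by norm_num⟩
  have hp : IsPGroup 5 (zpowers g) := IsPGroup.of_card (n := 1) (by rw [Nat.card_zpowers, orderOf_eq_prime h5 h1, pow_one])
  have h := hp.card_modEq_card_fixedPoints X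
  have e : Nat.card (fixedPoints (zpowers g) X) = Nat.card (fx X g) := by
    refine Nat.card_congr (Equiv.subtypeEquivRight fun x => ⟨fun k => k ⟨g, mem_zpowers g⟩, fun k y => ?_⟩)
    exact (zpowers_le (H := stabilizer A5 x)).2 k y.2
  have d : Nat.card (fx X g) ∣ 2 ^ 4 := by have := card_subgroup_dvd_card (fx X g); rwa [hX] at this
  have n : Nat.card (fx X g) ≠ 16 := fun k => h1 (hf g fun x => mem_fx.1 (by
    rw [(card_eq_iff_eq_top _).1 (k.trans hX.symm)]; trivial))
  rw [e, hX] at h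
  obtain ⟨i, hi, k⟩ := (Nat.dvd_prime_pow Nat.prime_two).1 d
  rw [← card_eq_one]
  rw [k] at h n ⊢
  interval_cases i <;> simp_all [Nat.ModEq]

theorem fix4 {g : A5} (h1 : g ≠ 1) : Nat.card (fx X g) ≤ 4 := by
  by_cases h5 : g ^ 5 = 1
  · rw [fix5 hX hf h1 h5]; simp
  obtain ⟨k, k1, k5⟩ := a5_gen g h5
  have hb := fix5 hX hf k1 k5
  have inj : Function.Injective fun p : fx X g × fx X g => (p.1 : X) * k • (p.2 : X) := by
    rintro ⟨a, b⟩ ⟨c, d⟩ h
    have e : (c : X)⁻¹ * a = k • ((d : X) * (b : X)⁻¹) := by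
      simp only at h
      rw [smul_mul', smul_inv', inv_mul_eq_iff_eq_mul, ← mul_assoc, ← h, mul_inv_cancel_right]
    have m1 : g • ((c : X)⁻¹ * a) = (c : X)⁻¹ * a := mem_fx.1 (mul_mem (inv_mem c.2) a.2)
    have m2 : g • ((d : X) * (b : X)⁻¹) = (d : X) * (b : X)⁻¹ := mem_fx.1 (mul_mem d.2 (inv_mem b.2))
    have m : (c : X)⁻¹ * a ∈ fx X (g * (k * g * k⁻¹)) := by
      rw [mem_fx, mul_smul, e, mul_smul, mul_smul, inv_smul_smul, m2, ← e, m1]
    rw [hb, mem_bot] at m
    rw [m, eq_comm, smul_eq_iff_eq_inv_smul, smul_one, mul_inv_eq_one] at e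
    exact Prod.ext (Subtype.ext (inv_mul_eq_one.1 m).symm) (Subtype.ext e.symm)
  have := Nat.card_le_card_of_injective _ inj
  rw [Nat.card_prod, hX] at this
  nlinarith

theorem orb : Nat.card (orbitRel.Quotient A5 X) ≤ 3 := by
  classical
  haveI := Fintype.ofFinite X
  haveI := Fintype.ofFinite (orbitRel.Quotient A5 X)
  have h := sum_card_fixedBy_eq_card_orbits_mul_card_group A5 X
  have le : ∑ g : A5, Fintype.card (fixedBy X g) ≤ 180 := by
    rw [← a5_sum]
    refine Finset.sum_le_sum fun g _ => ?_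
    have e : Fintype.card (fixedBy X g) = Nat.card (fx X g) := by rw [← Nat.card_eq_fintype_card]; rfl
    rw [e]
    split_ifs with h1 h5
    · exact hX ▸ card_le_card_group _
    · rw [fix5 hX hf h1 h5]; simp
    · exact fix4 hX hf h1
  rw [h, ← Nat.card_eq_fintype_card, ← Nat.card_eq_fintype_card, card5] at le
  change Nat.card (orbitRel.Quotient A5 X) * 60 ≤ 180 at le
  omega

theorem cnt {C : Type*} (hC : Nat.card C = 3) (f : C → X) (h1 : ∀ c, f c ≠ 1) (h : ∀ c d, ∀ g : A5, g • f d = f c → c = d) : False := by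
  haveI : Finite C := Nat.finite_of_card_ne_zero (by omega)
  have inj : Function.Injective fun o : Option C => (Quotient.mk _ (o.elim 1 f) : orbitRel.Quotient A5 X) := by
    intro a b k
    obtain ⟨g, hg⟩ : _ ∈ orbit A5 _ := Quotient.exact k
    rcases a with _ | a <;> rcases b with _ | b <;> simp only [Option.elim] at hg
    · rfl
    · exact absurd (by rwa [smul_eq_iff_eq_inv_smul, smul_one] at hg) (h1 b)
    · exact absurd (by rw [← hg, smul_one]) (h1 a)
    · rw [h a b g hg]
  have := (Nat.card_le_card_of_injective _ inj).trans (orb hX hf)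
  rw [Finite.card_option, hC] at this
  omega

theorem comm_of_fix (hc : ∀ a b : X, a * b = b * a) (h2 : ∀ a : X, a * a = 1) {t : A5} (ht : t * t = 1) (t1 : t ≠ 1) {a : X}
    (ha : t • a = a) : ∃ b : X, b * t • b = a := by
  let φ : X →* X := MonoidHom.mk' (fun b => b * t • b) fun b c => by
    simp only [smul_mul', mul_assoc]; rw [← mul_assoc c, hc c, mul_assoc]
  have k : φ.ker ≤ fx X t := fun b hb => by
    have : b * t • b = b * b := by rw [h2]; exact hb
    exact mul_left_cancel this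
  have r : φ.range ≤ fx X t := by
    rintro _ ⟨b, rfl⟩
    show t • (b * t • b) = b * t • b
    rw [smul_mul', smul_smul, ht, one_smul, hc]
  have c1 := φ.ker.card_mul_index
  rw [index_ker, hX] at c1
  have c2 := (card_le_of_le k).trans (fix4 hX hf t1)
  have c3 := fix4 hX hf t1
  have : φ.range = fx X t := eq_of_le_of_card_ge r (by
    have : Nat.card φ.range = Nat.card (Set.range φ) := rfl
    nlinarith)
  exact (this.ge (mem_fx.2 ha) :)

end act

/-- A Sylow 2-subgroup of `A₈` has a noncentral square. -/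
theorem a8 (P : Sylow 2 (alternatingGroup (Fin 8))) : ∃ x ∈ P, ∃ y ∈ P, x * x * y ≠ y * (x * x) := by
  let K : Subgroup (Perm (Fin 8)) :=
    { carrier := {g | ∀ i, (g i).1 % 4 = i.1 % 4}
      mul_mem' := fun {a b} ha hb i => (ha _).trans (hb i)
      one_mem' := fun _ => rfl
      inv_mem' := fun {a} ha i => by simpa using (ha (a⁻¹ i)).symm }
  let x : Perm (Fin 8) := swap 0 1 * swap 1 2 * swap 2 3 * (swap 4 5 * swap 5 6 * swap 6 7)
  let y : Perm (Fin 8) := swap 0 4 * swap 1 5
  have hx : ∀ i, (x i).1 % 4 = (i.1 + 1) % 4 := by decide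
  have hK : IsPGroup 2 K := fun g => ⟨1, Subtype.ext (Equiv.ext fun i => by
    have h1 := g.2 i
    have h2 := g.2 (g.1 i)
    show g.1 (g.1 i) = i
    by_contra k
    by_cases e : g.1 i = i
    · exact k (by rw [e, e])
    · refine e (g.1.injective (Fin.ext ?_))
      have := fun c => k (Fin.ext c)
      have := fun c => e (Fin.ext c)
      have := (g.1 (g.1 i)).2
      have := (g.1 i).2
      have := i.2
      omega)⟩
  have hz : IsPGroup 2 (zpowers x) := IsPGroup.of_card (n := 2) (by
    rw [Nat.card_zpowers]; exact orderOf_eq_prime_pow (by decide +kernel) (by decide +kernel))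
  have hn : zpowers x ≤ normalizer (K : Set (Perm (Fin 8))) := zpowers_le.2 (mem_normalizer_fintype fun g hg i => by
    have h1 := hg (x⁻¹ i)
    have h2 := hx (g (x⁻¹ i))
    have h3 := hx (x⁻¹ i)
    simp only [Perm.coe_mul, Function.comp_apply, Perm.coe_inv, apply_symm_apply] at *
    omega)
  have hD := (hK.to_sup_of_normal_left' hz hn).comap_subtype (K := alternatingGroup (Fin 8))
  obtain ⟨Q, hQ⟩ := hD.exists_le_sylow
  obtain ⟨g, rfl⟩ := exists_smul_eq (alternatingGroup (Fin 8)) Q P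
  have sx : x ∈ alternatingGroup (Fin 8) := by rw [Perm.mem_alternatingGroup]; decide
  have sy : y ∈ alternatingGroup (Fin 8) := by rw [Perm.mem_alternatingGroup]; decide
  refine ⟨_, smul_mem_pointwise_smul _ (MulAut.conj g) _ (hQ (show ⟨x, sx⟩ ∈ _ from mem_sup_right (mem_zpowers x))), _,
    smul_mem_pointwise_smul _ (MulAut.conj g) _ (hQ (show ⟨y, sy⟩ ∈ _ from mem_sup_left (show ∀ i, (y i).1 % 4 = i.1 % 4 by decide))), fun k => ?_⟩
  rw [← smul_mul', ← smul_mul', ← smul_mul', smul_left_cancel_iff] at k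
  exact absurd (congrArg Subtype.val k) (show ¬ x * x * y = y * (x * x) by decide +kernel)

theorem card_syl8 (P : Sylow 2 (alternatingGroup (Fin 8))) : Nat.card P = 64 := by
  rw [P.card_eq_multiplicity, nat_card_alternatingGroup, Nat.card_fin]
  have : Nat.factorial 8 / 2 = 2 ^ 6 * 315 := by decide
  rw [this, Nat.factorization_mul (by norm_num) (by norm_num), Nat.Prime.factorization_pow Nat.prime_two]
  simp [Nat.factorization_eq_zero_of_not_dvd (show ¬ 2 ∣ 315 by norm_num)]

end H25.AE
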