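import Cfsg.Agent.S1066
import Cfsg.Agent.S1070

/-! Order and simplicity of `²E₆(2)` (namespace `H25.LpO`): `o`. -/

set_option autoImplicit false

namespace H25.LpO
open _root_.Cfsg _root_.Cfsg.Lie

universe u

theorem o : ∀ (K : Type u) [Field K] [Fintype K], Fintype.card K = 4 → IsSimpleGroup (twistedE6 K 2) ∧
    Nat.card (twistedE6 K 2) = 2 ^ 36 * 3 ^ 9 * 5 ^ 2 * 7 ^ 2 * 11 * 13 * 17 * 19 := fun K _ _ hK => by
  have h := Cfsg.Agent.S1066.result (K := K) (q := 2) Nat.prime_two.isPrimePow hK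
  refine ⟨(Cfsg.Agent.S1070.result Nat.prime_two.isPrimePow hK).1, ?_⟩
  norm_num at h ⊢
  omega

end H25.LpO
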