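import Cfsg.Agent.H17.AL2

/-! Involution centraliser `2^{1+4}_-.S₄`: the second case of the dichotomy (namespace `H25.ALD`): `d2`. -/

set_option autoImplicit false
set_option maxRecDepth 100000
set_option synthInstance.maxSize 4096

namespace H25.ALD
open Subgroup H17.AL

/-- product in the field of four elements -/
def fm (a b : ℕ) : ℕ := (a % 2 * (b % 2) + a / 2 * (b / 2)) % 2 + 2 * ((a % 2 * (b / 2) + a / 2 * (b % 2) + a / 2 * (b / 2)) % 2)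

theorem fld (F : Type*) [Field F] [Fintype F] (hF : Fintype.card F = 4) : ∃ φ : F → ℕ, (∀ a, φ a < 4) ∧
    (∀ a b, φ (a + b) = φ a ^^^ φ b) ∧ (∀ a b, φ (a * b) = fm (φ a) (φ b)) ∧ (∀ a, φ a = 0 → a = 0) ∧ φ 0 = 0 ∧ φ 1 = 1 ∧
    ∀ n < 4, ∃ a, φ a = n := by
  classical
  have h2 : (2 : F) = 0 := by
    have := FiniteField.cast_card_eq_zero F
    rw [hF] at this
    have : (2 : F) * 2 = 0 := by rw [← this]; norm_num
    simpa using this
  obtain ⟨ω, hω⟩ : ∃ ω : F, ω ∉ ({0, 1} : Finset F) := by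
    by_contra! c
    have := (Finset.card_le_card (s := Finset.univ) fun a _ => c a).trans (Finset.card_le_two (a := (0 : F)) (b := 1))
    rw [Finset.card_univ, hF] at this
    omega
  simp only [Finset.mem_insert, Finset.mem_singleton, not_or] at hω
  have h4 := FiniteField.pow_card ω
  rw [hF] at h4
  have hq : ω * ω = ω + 1 := by
    have : ω * ((ω - 1) * (ω * ω - (ω + 1))) = 0 := by linear_combination h4 - (ω ^ 3 - ω) * h2
    exact sub_eq_zero.1 (((mul_eq_zero.1 ((mul_eq_zero.1 this).resolve_left hω.1)).resolve_left (sub_ne_zero.2 hω.2)))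
  obtain ⟨w0, w1⟩ := hω
  let ψ : ℕ → F := fun n => if n = 0 then 0 else if n = 1 then 1 else if n = 2 then ω else ω + 1
  have inj : ∀ m < 4, ∀ n < 4, ψ m = ψ n → m = n := by
    intro m hm n hn
    interval_cases m <;> interval_cases n <;> simp [ψ] <;> grind
  have add : ∀ m < 4, ∀ n < 4, ψ (m ^^^ n) = ψ m + ψ n := by
    intro m hm n hn
    interval_cases m <;> interval_cases n <;> simp [ψ] <;> grind
  have mul : ∀ m < 4, ∀ n < 4, ψ (fm m n) = ψ m * ψ n := by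
    intro m hm n hn
    interval_cases m <;> interval_cases n <;> simp [ψ, fm] <;> grind
  have bij : Function.Bijective fun n : Fin 4 => ψ n :=
    (Fintype.bijective_iff_injective_and_card _).2 ⟨fun a b r => Fin.ext (inj _ a.2 _ b.2 r), by simp [hF]⟩
  choose φ hφ using bij.2
  have k : ∀ a n, n < 4 → ψ n = a → (φ a : ℕ) = n := fun a n hn r => inj _ (φ a).2 _ hn ((hφ a).trans r.symm)
  refine ⟨fun a => φ a, fun a => (φ a).2, fun a b => k _ _ ((by decide : ∀ m < 4, ∀ n < 4, m ^^^ n < 4) _ (φ a).2 _ (φ b).2) ?_,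
    fun a b => k _ _ ((by decide : ∀ m < 4, ∀ n < 4, fm m n < 4) _ (φ a).2 _ (φ b).2) ?_, fun a r => ?_, k _ _ (by decide) rfl,
    k _ _ (by decide) rfl, fun n hn => ⟨ψ n, k _ _ hn rfl⟩⟩
  · rw [add _ (φ a).2 _ (φ b).2]; exact congrArg₂ _ (hφ a) (hφ b)
  · rw [mul _ (φ a).2 _ (φ b).2]; exact congrArg₂ _ (hφ a) (hφ b)
  · rw [← hφ a]; simp only at r ⊢; rw [r]; rfl

def vv (s : ℕ) : ℕ := [1672, 83, 538, 1217].getD s 0
def mw (x y : ℕ) : ℕ := cm (x % 32) (am (vv (x / 32)) (y % 32)) + 32 * (x / 32 ^^^ y / 32)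
def uc (a b c : ℕ) : ℕ := [0, 16, 15, 31, 57, 41, 38, 54, 124, 108, 99, 115, 90, 74, 85, 69, 32, 48, 47, 63, 25, 9, 6, 22, 92, 76, 67,
  83, 122, 106, 117, 101, 64, 80, 79, 95, 121, 105, 102, 118, 60, 44, 35, 51, 26, 10, 21, 5, 96, 112, 111, 127, 89, 73, 70, 86, 28,
  12, 3, 19, 58, 42, 53, 37].getD (16 * a + 4 * b + c) 0
def rc (x : ℕ) : ℕ := ml (inn (x % 32)) (vv (x / 32))

theorem g1 : ∀ a < 4, ∀ b < 4, ∀ c < 4, (uc a b c < 128 ∧ rc (uc a b c) ∈ H17.AL.LT ∧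
    (rc (uc a b c) = 1672 → a = 0 ∧ b = 0 ∧ (c = 0 ∨ uc a b c = 16))) ∧
    ∀ x < 4, ∀ y < 4, ∀ z < 4, mw (uc a b c) (uc x y z) = uc (a ^^^ x) (b ^^^ y) (c ^^^ z ^^^ fm a y) := by decide +kernel

theorem g2 : (∀ X ∈ H17.AL.LT, ∃ a < 4, ∃ b < 4, ∃ c < 4, rc (uc a b c) = X) ∧
    ∀ a < 4, ∀ c < 4, ∃ b < 4, ∃ d < 4, mw 8 (uc a 0 c) = mw (uc 0 b d) 8 := by decide +kernel

theorem d2 {Γ : Type*} [Group Γ] [HasDistribNeg Γ] {e : Fin 4 → Γ} (M : Md e) {v : Γ} (hv : ρ e v = 83) (hs : v * v = 1)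
    (F : Type*) [Field F] [Fintype F] (hF : Fintype.card F = 4) : ∃ u : F → F → F → Γ,
    (∀ a b c a' b' c', u a b c * u a' b' c' = u (a + a') (b + b') (c + c' + a * b')) ∧
    (∀ a b c, u a b c = 1 → a = 0 ∧ b = 0 ∧ c = 0) ∧ (∀ x, x ∈ M.TT ↔ ∃ a b c, u a b c = x) ∧ u 0 0 1 = -1 ∧
    ∀ a c, ∃ b c', e 3 * u a 0 c * (e 3)⁻¹ = u 0 b c' := by
  obtain ⟨φ, lt, add, mul, z0, p0, p1, sj⟩ := fld F hF
  obtain ⟨d, hd⟩ := M.surj (X := 1553) (by decide +kernel)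
  obtain ⟨y, hy⟩ : ∃ y, y = d * v * d⁻¹ := ⟨_, rfl⟩
  have ry : ρ e y = 538 := by rw [hy, M.ρ_mul, M.ρ_mul, M.ρ_inv, hd, hv]; decide +kernel
  have y2 : y * y = 1 := by rw [hy, conj_mul, hs]; simp
  have rvy : ρ e (v * y) = 1217 := by rw [M.ρ_mul, hv, ry]; decide +kernel
  have vy2 : v * y * (v * y) = 1 := by
    have q : d * y * d⁻¹ * (d * y * d⁻¹) = 1 := by rw [conj_mul, y2]; simp
    rcases M.ρ_inj (g := v * y) (h := d * y * d⁻¹) (by
      rw [rvy, M.ρ_mul, M.ρ_mul, M.ρ_inv, hd, ry]; decide +kernel) with r | r <;> rw [r]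
    exacts [q, by rw [neg_mul_neg, q]]
  have c : y * v = v * y := by
    rw [← inv_eq_of_mul_eq_one_right vy2, mul_inv_rev, inv_eq_of_mul_eq_one_right hs, inv_eq_of_mul_eq_one_right y2]
  have c' : ∀ x, y * (v * x) = v * (y * x) := fun x => by rw [← mul_assoc, c, mul_assoc]
  have hs' : ∀ x, v * (v * x) = x := fun x => by rw [← mul_assoc, hs, one_mul]
  obtain ⟨τ, hτ⟩ : ∃ τ : ℕ → Γ, τ = fun s => [1, v, y, v * y].getD s 1 := ⟨_, rfl⟩
  have t1 : ∀ s < 4, ρ e (τ s) = vv s := by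
    intro s h
    rw [hτ]
    interval_cases s
    exacts [M.ρ_one, hv, ry, rvy]
  have t2 : ∀ s < 4, ∀ t < 4, τ s * τ t = τ (s ^^^ t) := by
    intro s h t h'
    rw [hτ]
    interval_cases s <;> interval_cases t <;> simp [mul_assoc, c, c', hs, hs', y2]
  obtain ⟨w, hw⟩ : ∃ w : ℕ → Γ, w = fun x => mo e (x % 32) * τ (x / 32) := ⟨_, rfl⟩
  have m32 : ∀ x : ℕ, x % 32 < 32 := fun x => Nat.mod_lt _ (by decide)
  have wm : ∀ x < 128, ∀ y < 128, w x * w y = w (mw x y) := fun x hx y hy => by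
    have a1 := M.am_lt (τ (x / 32)) (m32 y)
    have a2 := M.conj_mo (τ (x / 32)) (m32 y)
    rw [t1 _ (by omega)] at a1 a2
    have a3 := M.cm_lt (m32 x) a1
    simp only [hw, mw, Nat.add_mul_mod_self_left, Nat.mod_eq_of_lt a3, Nat.add_mul_div_left _ _ (show 0 < 32 by decide),
      Nat.div_eq_of_lt a3, Nat.zero_add]
    rw [← M.mo_mul (m32 x) a1, ← a2, ← t2 _ (by omega) _ (by omega)]
    group
  have wr : ∀ x < 128, ρ e (w x) = rc x := fun x hx => by rw [hw, M.ρ_mul, M.ρ_mo (m32 x), t1 _ (by omega), rc]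
  have w16 : w 16 = -1 := by rw [hw, hτ]; simp [mo16]
  have w8 : w 8 = e 3 := by rw [hw, hτ]; simp [mo]
  have law : ∀ a b c a' b' c', w (uc (φ a) (φ b) (φ c)) * w (uc (φ a') (φ b') (φ c')) =
      w (uc (φ (a + a')) (φ (b + b')) (φ (c + c' + a * b'))) := fun a b c a' b' c' => by
    rw [wm _ (g1 _ (lt a) _ (lt b) _ (lt c)).1.1 _ (g1 _ (lt a') _ (lt b') _ (lt c')).1.1,
      (g1 _ (lt a) _ (lt b) _ (lt c)).2 _ (lt a') _ (lt b') _ (lt c'), add, add, add, add, mul]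
  have u1 : w (uc (φ 0) (φ 0) (φ 1)) = -1 := by rw [p0, p1]; exact w16
  refine ⟨fun a b c => w (uc (φ a) (φ b) (φ c)), law, fun a b c r => ?_, fun x => ⟨fun hx => ?_, ?_⟩, u1, fun a c => ?_⟩
  · obtain ⟨⟨l, -, k⟩, -⟩ := g1 _ (lt a) _ (lt b) _ (lt c)
    beta_reduce at r
    obtain ⟨k1, k2, k3⟩ := k (by rw [← wr _ l, r, M.ρ_one])
    refine ⟨z0 _ k1, z0 _ k2, z0 _ (k3.resolve_right fun k => M.ne ?_)⟩
    rw [← w16, ← k]; exact r.symm
  · obtain ⟨a, ha, b, hb, c, hc, r⟩ := g2.1 _ (M.mem_TT.1 hx)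
    obtain ⟨a, rfl⟩ := sj a ha
    obtain ⟨b, rfl⟩ := sj b hb
    obtain ⟨c, rfl⟩ := sj c hc
    rcases M.ρ_inj (r.symm.trans (wr _ (g1 _ ha _ hb _ hc).1.1).symm) with k | k
    · exact ⟨a, b, c, k.symm⟩
    · exact ⟨_, _, _, (law 0 0 1 a b c).symm.trans (by rw [u1, k, neg_one_mul])⟩
  · rintro ⟨a, b, c, rfl⟩
    obtain ⟨⟨l, k, -⟩, -⟩ := g1 _ (lt a) _ (lt b) _ (lt c)
    exact M.mem_TT.2 (by rw [wr _ l]; exact k)
  · obtain ⟨b, hb, d, hd, r⟩ := g2.2 _ (lt a) _ (lt c)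
    obtain ⟨b, rfl⟩ := sj b hb
    obtain ⟨d, rfl⟩ := sj d hd
    refine ⟨b, d, mul_inv_eq_iff_eq_mul.2 ?_⟩
    simp only [p0]
    rw [← w8, wm _ (by decide) _ (g1 _ (lt a) _ (by decide) _ (lt c)).1.1, r, wm _ (g1 _ (by decide) _ hb _ hd).1.1 _ (by decide)]

end H25.ALD
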