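import Cfsg.Agent.H06.FV0
import Cfsg.Agent.H27.ClassSize

/-! Flavell cluster, part T4 (1): the ambient setting. -/

set_option autoImplicit false
open Cfsg BG Subgroup Cfsg.Agent.H06.FV
open scoped commutatorElement
universe u
namespace H25.FE

variable {Γ : Type u} [Group Γ]

theorem exists_mul_cop [Finite Γ] {H K X : Subgroup Γ}
    (h : (H.relIndex X).Coprime (K.relIndex X)) {x : Γ} (hx : x ∈ X) :
    ∃ a ∈ H, ∃ b ∈ K, x = a * b := by
  obtain ⟨a, ha, b, hb, e⟩ := H27.exists_mul_of_coprime_index (H := H.subgroupOf X)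
    (K := K.subgroupOf X) h ⟨x, hx⟩
  exact ⟨a, ha, b, hb, congrArg Subtype.val e⟩

structure St (p r : ℕ) (V R A U : Subgroup Γ) (x : Γ) : Prop where
  md : Md p r V R
  kit : Kit p r V R
  AV : A ≤ N_(V)
  RA : R ≤ N_(A)
  fa : (A ⊔ R) ⊓ C_(V) = ⊥
  pA : ¬ p ∣ Nat.card A
  rA : ¬ r ∣ Nat.card A
  xA : x ∈ A
  x1 : x ≠ 1
  hU : U = ⁅V, zpowers x⁆
  tr : ∀ a ∈ U, ∀ b ∈ U, a ≠ 1 → b ≠ 1 → ∃ y ∈ zpowers x, y * a * y⁻¹ = b

variable {p r : ℕ} {V R A U : Subgroup Γ} {x : Γ}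

namespace St

theorem XA (h : St p r V R A U x) : zpowers x ≤ A := zpowers_le.2 h.xA
theorem XV (h : St p r V R A U x) : zpowers x ≤ N_(V) := h.XA.trans h.AV
theorem UV (h : St p r V R A U x) : U ≤ V := h.hU ▸ comm_le_left h.XV
theorem XU (h : St p r V R A U x) : zpowers x ≤ N_(U) := h.hU ▸ right_le_norm_comm _ _
theorem ab (h : St p r V R A U x) : IsMulCommutative V := h.md.ea.abelian
theorem Rp (h : St p r V R A U x) : (Nat.card R).Prime := h.md.cR ▸ h.md.rp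

theorem triv (h : St p r V R A U x) {a : Γ} (ha : a ∈ A) (hc : a ∈ C_(V)) : a = 1 :=
  eq_one_of_mem_of_disj h.fa (mem_sup_left ha) hc

theorem cop [Finite Γ] (h : St p r V R A U x) {X L : Subgroup Γ} (hX : X ≤ A) (hL : L ≤ V) :
    (Nat.card X).Coprime (Nat.card L) :=
  (pg_coprime h.md.pp (pg_le h.md.ea.pg hL) (not_dvd_of_le h.pA hX)).symm

theorem copR (h : St p r V R A U x) {X : Subgroup Γ} (hX : X ≤ A) :
    (Nat.card R).Coprime (Nat.card X) := by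
  rw [h.md.cR]; exact (Nat.Prime.coprime_iff_not_dvd h.md.rp).2 (not_dvd_of_le h.rA hX)

theorem solR (h : St p r V R A U x) : Group.IsSolvable R :=
  sol_of_abelian (abelian_of_cyclic (cyclic_of_prime h.Rp))

theorem dp [Finite Γ] (h : St p r V R A U x) : Dprod (V ⊓ C_(zpowers x)) U V :=
  h.hU ▸ coprime_abelian_dprod h.XV (h.cop h.XA le_rfl) h.ab

theorem U0 (h : St p r V R A U x) : U ≠ ⊥ := by
  intro h0
  rw [h.hU, comm_eq_bot] at h0
  exact h.x1 (h.triv h.xA (cent_symm h0 (mem_zpowers x)))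

theorem commX {a b : Γ} (ha : a ∈ zpowers x) (hb : b ∈ zpowers x) : a * b = b * a :=
  commute_of_mem_zpowers ha hb

theorem sr [Finite Γ] (h : St p r V R A U x) : Semiregular U (zpowers x) := by
  intro y hy hy1
  by_contra hne
  obtain ⟨u, ⟨hu, huy⟩, hu1⟩ := exists_mem_ne_one hne
  apply hy1
  apply h.triv (h.XA hy)
  rw [← h.dp.sup, cent_sup]
  refine ⟨mem_cent.2 fun w hw => (mem_cent.1 hw.2 y hy).symm, mem_cent.2 fun b hb => ?_⟩
  by_cases hb1 : b = 1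
  · simp [hb1]
  obtain ⟨z, hz, rfl⟩ := h.tr u hu b hb hu1 hb1
  have e1 := mem_cent1.1 huy
  have e2 := commX hz hy
  calc z * u * z⁻¹ * y = z * u * (z⁻¹ * y * z) * z⁻¹ := by group
    _ = z * (u * y) * z⁻¹ := by rw [mul_assoc z⁻¹, ← e2]; group
    _ = (z * y) * u * z⁻¹ := by rw [e1]; group
    _ = _ := by rw [e2]; group

theorem fix1 [Finite Γ] (h : St p r V R A U x) {y u : Γ} (hy : y ∈ zpowers x) (hy1 : y ≠ 1)
    (hu : u ∈ U) (e : u * y = y * u) : u = 1 := by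
  have : u ∈ U ⊓ C_[y] := ⟨hu, mem_cent1.2 e⟩
  rwa [h.sr y hy hy1, mem_bot] at this

theorem cardX [Finite Γ] (h : St p r V R A U x) : Nat.card (zpowers x) = Nat.card U - 1 := by
  have h1 := h.sr.card_dvd h.XU
  have h0 := one_lt_card h.U0
  refine le_antisymm (Nat.le_of_dvd (by omega) h1) ?_
  obtain ⟨u, hu, hu1⟩ := exists_mem_ne_one h.U0
  have h2 : (U : Set Γ) \ {1} ⊆ (fun y => y * u * y⁻¹) '' (zpowers x : Set Γ) := by
    rintro b ⟨hb, hb1⟩
    obtain ⟨y, hy, e⟩ := h.tr u hu b hb hu1 hb1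
    exact ⟨y, hy, e⟩
  have h3 := (Set.ncard_le_ncard h2 (Set.toFinite _)).trans (Set.ncard_image_le (Set.toFinite _))
  rw [Set.ncard_diff_singleton_of_mem (show (1 : Γ) ∈ (U : Set Γ) from U.one_mem)] at h3
  exact h3

theorem fpf [Finite Γ] (h : St p r V R A U x) {a : Γ} (ha : a ∈ A) {L : Subgroup Γ} (hL : L ≤ V)
    (hn : cj a R ≤ N_(L)) : r ∣ Nat.card L - 1 := by
  have h1 : V ⊓ C_(cj a R) = ⊥ := by
    rw [← cj_of_mem_norm (h.AV ha), ← cj_cent, ← cj_inf, h.md.fpf, cj_bot]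
  have h2 : Semiregular L (cj a R) := semiregular_prime (by rw [card_cj]; exact h.Rp)
    (eq_bot_mono h1 (inf_le_inf_right _ hL))
  have := h2.card_dvd hn
  rwa [card_cj, h.md.cR] at this

theorem star [Finite Γ] (h : St p r V R A U x) {a : Γ} (ha : a ∈ A) : ¬ cj a R ≤ N_(U) := by
  intro hn
  have := h.fpf ha h.UV hn
  rw [← h.cardX] at this
  exact h.rA (this.trans (card_dvd h.XA))

theorem commU [Finite Γ] (h : St p r V R A U x) {y : Γ} (hy : y ∈ zpowers x) (hy1 : y ≠ 1) :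
    ⁅V, zpowers y⁆ = U := by
  have hle : zpowers y ≤ zpowers x := zpowers_le.2 hy
  refine le_antisymm (h.hU ▸ comm_mono le_rfl hle) ?_
  have := coprime_comm_eq_of_cent_bot (hle.trans h.XU) (h.cop (hle.trans h.XA) h.UV)
    (Or.inl (sol_of_abelian (abelian_of_cyclic (cyclic_zpowers y))))
    (by rw [cent_zpowers]; exact h.sr y hy hy1)
  rw [← this]
  exact comm_mono h.UV le_rfl

theorem star2 [Finite Γ] (h : St p r V R A U x) {a : Γ} (ha : a ∈ A) {y : Γ} (hy : y ∈ zpowers x)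
    (hy1 : y ≠ 1) : y ∉ C_(cj a R) := by
  intro hc
  apply h.star ha
  rw [← h.commU hy hy1]
  refine norm_comm ?_ (le_norm_of_cent (cent_symm (zpowers_le.2 hc)))
  rw [← cj_of_mem_norm (h.AV ha), ← cj_norm]
  exact cj_mono a h.md.RV

theorem syl [Finite Γ] (h : St p r V R A U x) {q : ℕ} (hq : q.Prime) (hq2 : q ≠ 2) :
    ∃ Q, IsSylowIn q Q A ∧ Q ≤ C_(R) := by
  by_cases hd : q ∣ Nat.card A
  · obtain ⟨Q, hQ, hn⟩ := coprime_sylow_exists hq (Or.inl h.solR) h.RA (h.copR le_rfl)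
    refine ⟨Q, hQ, h.kit.m2 q Q hq hq2 ?_ ?_ (hQ.le.trans h.AV) hn
      (eq_bot_mono h.fa (inf_le_inf_right _ (sup_le_sup_right hQ.le _))) (hQ.pg hq)⟩
    · rintro rfl; exact h.pA hd
    · rintro rfl; exact h.rA hd
  · exact ⟨⊥, sylow_bot hq hd, bot_le⟩

theorem X2 [Finite Γ] (h : St p r V R A U x) : IsPGroup 2 (zpowers x) := by
  rw [← isPi_singleton Nat.prime_two]
  intro q hq hd
  by_contra hq2
  obtain ⟨Q, hQ, hc⟩ := h.syl hq hq2
  obtain ⟨y, hy, ho⟩ := exists_orderOf_eq_prime hq hd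
  obtain ⟨a, ha, hle⟩ := sylow_subJ hq hQ (pg_of_card_eq (A := zpowers y) (by rw [card_zpowers, ho]))
    ((zpowers_le.2 hy).trans h.XA)
  refine h.star2 ha hy (by rintro rfl; simp at ho; exact hq.ne_one ho.symm) ?_
  rw [← cj_cent]
  exact cj_mono a hc (hle (mem_zpowers y))

theorem two_dvd [Finite Γ] (h : St p r V R A U x) : 2 ∣ Nat.card (zpowers x) :=
  pg_dvd Nat.prime_two h.X2 (zpowers_ne_bot h.x1)

theorem r2 [Finite Γ] (h : St p r V R A U x) : r ≠ 2 := by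
  rintro rfl
  exact h.rA (h.two_dvd.trans (card_dvd h.XA))

theorem EA (h : St p r V R A U x) : ⁅A, R⁆ ≤ A := comm_le_left h.RA

theorem E2 [Finite Γ] (h : St p r V R A U x) : IsPGroup 2 ↥(⁅A, R⁆ : Subgroup Γ) := by
  obtain ⟨D, hD, hn⟩ := coprime_sylow_exists Nat.prime_two (Or.inl h.solR) h.RA (h.copR le_rfl)
  refine pg_le (hD.pg Nat.prime_two) (commutator_le.2 fun a ha s hs => ?_)
  obtain ⟨d, hd, c, hc, rfl⟩ := exists_mul_cop (H := D) (K := C_(R)) (X := A)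
    (coprime_of_forall fun q hq h1 h2 => by
      by_cases hq2 : q = 2
      · subst hq2; exact hD.not_dvd' hq h1
      · obtain ⟨Q, hQ, hQc⟩ := h.syl hq hq2
        exact hQ.not_dvd' hq (h2.trans (relIndex_dvd_left A hQc))) ha
  have e := mem_cent.1 hc s hs
  have : ⁅d * c, s⁆ = d * (s * d⁻¹ * s⁻¹) := by
    rw [commutatorElement_def]
    calc d * c * s * (d * c)⁻¹ * s⁻¹ = d * (c * s) * c⁻¹ * d⁻¹ * s⁻¹ := by group
      _ = _ := by rw [← e]; group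
  rw [this]
  exact D.mul_mem hd (conj_mem_of_norm (hn hs) (D.inv_mem hd))

theorem kit3 [Finite Γ] (h : St p r V R A U x) {F : Subgroup Γ} (hF : F ≤ ⁅A, R⁆)
    (hc : ⁅F, R⁆ = F) : F ⊓ C_(F) = F ⊓ C_(R) ∧ ⁅F, F⁆ = F ⊓ C_(R) ∧ (∀ x ∈ F, x ^ 2 ∈ C_(R)) ∧
      ∀ b ∈ F ⊓ C_(R), b ^ 2 = 1 :=
  h.kit.m3 F ((hF.trans h.EA).trans h.AV)
    (eq_bot_mono h.fa (inf_le_inf_right _ (sup_le_sup_right (hF.trans h.EA) _)))
    (pg_le h.E2 hF) h.r2 hc

theorem ER [Finite Γ] (h : St p r V R A U x) : ⁅⁅A, R⁆, R⁆ = ⁅A, R⁆ :=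
  coprime_comm_comm h.RA (h.copR le_rfl) (Or.inl h.solR)

theorem dec [Finite Γ] (h : St p r V R A U x) {a : Γ} (ha : a ∈ A) :
    ∃ c ∈ A ⊓ C_(R), ∃ e ∈ ⁅A, R⁆, a = c * e := by
  have h1 := coprime_comm_sup_cent h.RA (h.copR le_rfl) (Or.inl h.solR)
  rw [← h1, sup_comm] at ha
  obtain ⟨c, hc, e, he, rfl⟩ := (mem_sup_norm' (inf_le_left.trans (left_le_norm_comm A R))).1 ha
  exact ⟨c, hc, e, he, rfl⟩

theorem sq1 (h : St p r V R A U x) {v : Γ} (hv : v ∈ V) (h2 : v * v = 1) : v = 1 := by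
  have h1 : orderOf v ∣ 2 := orderOf_dvd_of_pow_eq_one (by rw [pow_two, h2])
  have h3 : orderOf v ∣ p := orderOf_dvd_of_pow_eq_one (h.md.ea.pow hv)
  exact orderOf_eq_one_iff.1 (Nat.eq_one_of_dvd_coprimes
    ((Nat.coprime_primes Nat.prime_two h.md.pp).2 h.md.p2.symm) h1 h3)

theorem commV (h : St p r V R A U x) {v w : Γ} (hv : v ∈ V) (hw : w ∈ V) : v * w = w * v :=
  mul_comm_of_abelian h.ab hv hw

section inv
variable {t : Γ}

theorem invU [Finite Γ] (h : St p r V R A U x) (ht : t ∈ zpowers x) (ht1 : t ≠ 1)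
    (ht2 : t * t = 1) {u : Γ} (hu : u ∈ U) : t * u * t⁻¹ = u⁻¹ := by
  have hu' : t * u * t⁻¹ ∈ U := conj_mem_of_norm (h.XU ht) hu
  have hi : t⁻¹ = t := inv_eq_of_mul_eq_one_right ht2
  have e := h.commV (h.UV hu) (h.UV hu')
  have := h.fix1 ht ht1 (U.mul_mem hu hu') (by
    rw [hi] at e ⊢
    calc u * (t * u * t) * t = u * t * u * (t * t) := by group
      _ = (t * t) * u * t * u := by rw [ht2]; group
      _ = t * (t * u * t * u) := by group
      _ = _ := by rw [← e])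
  exact eq_inv_of_mul_eq_one_right this

theorem fixW [Finite Γ] (h : St p r V R A U x) (ht : t ∈ zpowers x) (ht1 : t ≠ 1) {v : Γ}
    (hv : v ∈ V) (e : v * t = t * v) : v * x = x * v := by
  obtain ⟨w, hw, u, hu, rfl⟩ := h.dp.mem.1 hv
  have e1 := mem_cent.1 hw.2 t ht
  have : u = 1 := h.fix1 ht ht1 hu (by
    apply mul_left_cancel (a := w)
    rw [← mul_assoc, e, ← mul_assoc, ← mul_assoc, e1])
  rw [this, mul_one]
  exact (mem_cent.1 hw.2 x (mem_zpowers x)).symm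

theorem memU [Finite Γ] (h : St p r V R A U x) (ht : t ∈ zpowers x) (ht1 : t ≠ 1)
    (ht2 : t * t = 1) {v : Γ} (hv : v ∈ V) (e : t * v * t⁻¹ = v⁻¹) : v ∈ U := by
  obtain ⟨w, hw, u, hu, rfl⟩ := h.dp.mem.1 hv
  have e1 := mem_cent.1 hw.2 t ht
  have e2 := h.invU ht ht1 ht2 hu
  have e3 := h.commV hw.1 (h.UV hu)
  have e4 : w * u⁻¹ = w⁻¹ * u⁻¹ := by
    calc w * u⁻¹ = w * (t * u * t⁻¹) := by rw [e2]
      _ = t * (w * u) * t⁻¹ := by rw [← mul_assoc, ← mul_assoc, ← e1]; group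
      _ = w⁻¹ * u⁻¹ := by rw [e, e3]; group
  have e5 : w = 1 := h.sq1 hw.1 (by
    have := mul_right_cancel e4
    nth_rewrite 1 [this]
    group)
  rw [e5, one_mul]; exact hu

end inv

end St
end H25.FE
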