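import Cfsg.Agent.H25.FE1

/-! Flavell cluster, part T4 (2): the central commutator `b = [t, f]`. -/

set_option autoImplicit false
open Cfsg BG Subgroup Cfsg.Agent.H06.FV
open scoped commutatorElement
universe u
namespace H25.FE

variable {Γ : Type u} [Group Γ] {p r : ℕ} {V R A U : Subgroup Γ} {x : Γ}

namespace St

theorem nE (_h : St p r V R A U x) : A ≤ N_(⁅A, R⁆) := left_le_norm_comm A R
theorem RE (_h : St p r V R A U x) : R ≤ N_(⁅A, R⁆) := right_le_norm_comm A R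

theorem cB [Finite Γ] (h : St p r V R A U x) {b e : Γ} (hb : b ∈ ⁅A, R⁆ ⊓ C_(R))
    (he : e ∈ ⁅A, R⁆) : b * e = e * b := by
  rw [← (h.kit3 le_rfl h.ER).1] at hb
  exact (mem_cent.1 hb.2 e he).symm

theorem nB [Finite Γ] (h : St p r V R A U x) : A ≤ N_(⁅A, R⁆ ⊓ C_(R)) := by
  rw [← (h.kit3 le_rfl h.ER).1]
  exact norm_inf h.nE (norm_cent h.nE)

theorem dB [Finite Γ] (h : St p r V R A U x) {e f : Γ} (he : e ∈ ⁅A, R⁆) (hf : f ∈ ⁅A, R⁆) :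
    e * f * e⁻¹ * f⁻¹ ∈ ⁅A, R⁆ ⊓ C_(R) := by
  rw [← (h.kit3 le_rfl h.ER).2.1]
  exact commutator_mem_commutator he hf

theorem sB [Finite Γ] (h : St p r V R A U x) {e : Γ} (he : e ∈ ⁅A, R⁆) :
    e * e ∈ ⁅A, R⁆ ⊓ C_(R) :=
  ⟨mul_mem he he, pow_two e ▸ (h.kit3 le_rfl h.ER).2.2.1 e he⟩

theorem bB [Finite Γ] (h : St p r V R A U x) {b : Γ} (hb : b ∈ ⁅A, R⁆ ⊓ C_(R)) : b * b = 1 :=
  pow_two b ▸ (h.kit3 le_rfl h.ER).2.2.2 b hb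

theorem shift [Finite Γ] (h : St p r V R A U x) {c e g : Γ} (hc : c ∈ A) (he : e ∈ ⁅A, R⁆)
    (hg : g ∈ ⁅A, R⁆) : ∃ β ∈ ⁅A, R⁆ ⊓ C_(R),
      g * (c * e) * g⁻¹ * (c * e)⁻¹ = g * c * g⁻¹ * c⁻¹ * β :=
  ⟨c * (g * e * g⁻¹ * e⁻¹) * c⁻¹, conj_mem_of_norm (h.nB hc) (h.dB hg he), by group⟩

theorem exists_bf [Finite Γ] (h : St p r V R A U x) {t : Γ} (ht : t ∈ zpowers x) (ht1 : t ≠ 1)
    (ht2 : t * t = 1) : ∃ f ∈ ⁅A, R⁆, ∃ b ∈ ⁅A, R⁆ ⊓ C_(R), b ≠ 1 ∧ b * x = x * b ∧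
      b = t * f * t⁻¹ * f⁻¹ := by
  set E := ⁅A, R⁆ with hE
  set B := E ⊓ C_(R) with hB
  let K : Subgroup Γ :=
    { carrier := {f | f ∈ E ∧ f * t * f⁻¹ * t⁻¹ ∈ B}
      one_mem' := ⟨E.one_mem, by simp⟩
      mul_mem' := by
        rintro f g ⟨hf, hf'⟩ ⟨hg, hg'⟩
        refine ⟨E.mul_mem hf hg, ?_⟩
        have : f * g * t * (f * g)⁻¹ * t⁻¹
            = f * (g * t * g⁻¹ * t⁻¹) * f⁻¹ * (f * t * f⁻¹ * t⁻¹) := by group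
        rw [this]
        exact B.mul_mem (conj_mem_of_norm (h.nB (h.EA hf)) hg') hf'
      inv_mem' := by
        rintro f ⟨hf, hf'⟩
        refine ⟨E.inv_mem hf, ?_⟩
        have : f⁻¹ * t * f⁻¹⁻¹ * t⁻¹ = f⁻¹ * (f * t * f⁻¹ * t⁻¹)⁻¹ * f := by group
        rw [this]
        exact conj_mem_of_norm' (h.nB (h.EA hf)) (B.inv_mem hf') }
  have mK : ∀ f, f ∈ K ↔ f ∈ E ∧ f * t * f⁻¹ * t⁻¹ ∈ B := fun f => Iff.rfl
  have KE : K ≤ E := fun f hf => hf.1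
  obtain ⟨t0, ht0, e1, he1, et⟩ := h.dec (h.XA ht)
  have mK0 : ∀ f ∈ E, f ∈ K ↔ f * t0 * f⁻¹ * t0⁻¹ ∈ B := by
    intro f hf
    obtain ⟨β, hβ, e⟩ := h.shift ht0.1 he1 hf
    rw [mK, et, e]
    exact ⟨fun h' => (B.mul_mem_cancel_right hβ).1 h'.2, fun h' => ⟨hf, B.mul_mem h' hβ⟩⟩
  have RK : R ≤ N_(K) := le_norm_iff.2 fun s hs f hf => by
    have h1 := conj_mem_of_norm (h.RE hs) (KE hf)
    rw [mK0 _ h1]
    have h2 := (mK0 f (KE hf)).1 hf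
    have e := mem_cent.1 ht0.2 s hs
    have e2 := mem_cent.1 h2.2 s hs
    have : s * f * s⁻¹ * t0 * (s * f * s⁻¹)⁻¹ * t0⁻¹ = f * t0 * f⁻¹ * t0⁻¹ := by
      calc s * f * s⁻¹ * t0 * (s * f * s⁻¹)⁻¹ * t0⁻¹
          = s * f * s⁻¹ * (t0 * s) * f⁻¹ * (t0 * s)⁻¹ := by group
        _ = s * (f * t0 * f⁻¹ * t0⁻¹) * s⁻¹ := by rw [← e]; group
        _ = _ := by rw [e2]; group
    rw [this]; exact h2
  have KA : K ≤ A := KE.trans h.EA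
  have F0K : ⁅K, R⁆ ≤ K := comm_le_left RK
  have F0R : ⁅⁅K, R⁆, R⁆ = ⁅K, R⁆ := coprime_comm_comm RK (h.copR KA) (Or.inl h.solR)
  have F0t : ⁅K, R⁆ ≤ C_[t0] := commutator_le.2 fun f hf s hs => by
    rw [mem_cent1, commutatorElement_def]
    have h2 := (mK0 f (KE hf)).1 hf
    set γ := f * t0 * f⁻¹ * t0⁻¹ with hγ
    have e := mem_cent.1 ht0.2 s hs
    have e2 := mem_cent.1 h2.2 s hs
    have h3 : f * s * f⁻¹ * s⁻¹ ∈ E := by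
      have := E.mul_mem (KE hf) (conj_mem_of_norm (h.RE hs) (E.inv_mem (KE hf)))
      simpa [mul_assoc] using this
    have e3 := h.cB h2 h3
    have e4 : t0 * f = γ⁻¹ * f * t0 := by rw [hγ]; group
    have e5 : t0 * f⁻¹ = f⁻¹ * γ * t0 := by rw [hγ]; group
    have e6 : t0 * s⁻¹ = s⁻¹ * t0 := by
      rw [eq_comm, inv_mul_eq_iff_eq_mul, ← mul_assoc, e, mul_inv_cancel_right]
    have e7 : γ * s⁻¹ = s⁻¹ * γ := by
      rw [eq_comm, inv_mul_eq_iff_eq_mul, ← mul_assoc, e2, mul_inv_cancel_right]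
    calc f * s * f⁻¹ * s⁻¹ * t0 = γ⁻¹ * (γ * (f * s * f⁻¹ * s⁻¹)) * t0 := by group
      _ = γ⁻¹ * f * s * f⁻¹ * (s⁻¹ * γ) * t0 := by rw [e3]; group
      _ = γ⁻¹ * f * s * (f⁻¹ * γ) * (s⁻¹ * t0) := by rw [← e7]; group
      _ = γ⁻¹ * f * s * (f⁻¹ * γ * t0) * s⁻¹ := by rw [← e6]; group
      _ = γ⁻¹ * f * (s * t0) * f⁻¹ * s⁻¹ := by rw [← e5]; group
      _ = (γ⁻¹ * f * t0) * s * f⁻¹ * s⁻¹ := by rw [e]; group
      _ = _ := by rw [← e4]; group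
  have hi : t⁻¹ = t := inv_eq_of_mul_eq_one_right ht2
  have e1K : e1 ∈ K := by
    refine ⟨he1, ?_⟩
    have h1 : t0 * t0 = t * e1⁻¹ * t⁻¹ * e1⁻¹ := by rw [hi, et]; group
    have h2 : t0 * t0 ∈ B := ⟨by
      rw [h1]
      exact E.mul_mem (conj_mem_of_norm (h.nE (h.XA ht)) (E.inv_mem he1)) (E.inv_mem he1),
      mul_mem ht0.2 ht0.2⟩
    have h3 := conj_mem_of_norm (h.nB (h.EA he1)) (B.mul_mem h2 (h.sB he1))
    have : e1 * (t0 * t0 * (e1 * e1)) * e1⁻¹ = e1 * t * e1⁻¹ * t⁻¹ := by rw [h1]; group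
    rwa [this] at h3
  have hK := coprime_comm_sup_cent RK (h.copR KA) (Or.inl h.solR)
  rw [← hK] at e1K
  obtain ⟨f0, hf0, β, hβ, rfl⟩ :=
    (mem_sup_norm (inf_le_left.trans (left_le_norm_comm K R))).1 e1K
  have f0R : f0 ∉ C_(R) := by
    intro hc
    refine h.star2 A.one_mem ht ht1 ?_
    rw [cj_one, et]
    exact mul_mem ht0.2 (mul_mem hc hβ.2)
  have f0c : f0 ∉ C_(⁅K, R⁆) := by
    intro hc
    have : f0 ∈ ⁅K, R⁆ ⊓ C_(⁅K, R⁆) := ⟨hf0, hc⟩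
    rw [(h.kit3 (F0K.trans KE) F0R).1] at this
    exact f0R this.2
  obtain ⟨f1, hf1, hne⟩ : ∃ f1 ∈ ⁅K, R⁆, f1 * f0 ≠ f0 * f1 := by
    by_contra hcon
    exact f0c (mem_cent.2 fun a ha => by by_contra h'; exact hcon ⟨a, ha, h'⟩)
  have tB : ∀ f ∈ K, t * f * t⁻¹ * f⁻¹ ∈ B := fun f hf => by
    have := B.inv_mem hf.2
    simpa [mul_assoc] using this
  let Bt : Subgroup Γ :=
    { carrier := {b | ∃ f ∈ K, b = t * f * t⁻¹ * f⁻¹}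
      one_mem' := ⟨1, K.one_mem, by simp⟩
      mul_mem' := by
        rintro _ _ ⟨f, hf, rfl⟩ ⟨g, hg, rfl⟩
        refine ⟨f * g, K.mul_mem hf hg, ?_⟩
        have e := h.cB (tB g hg) (KE hf)
        calc t * f * t⁻¹ * f⁻¹ * (t * g * t⁻¹ * g⁻¹)
            = t * f * t⁻¹ * f⁻¹ * (t * g * t⁻¹ * g⁻¹ * f) * f⁻¹ := by group
          _ = _ := by rw [e]; group
      inv_mem' := by
        rintro _ ⟨f, hf, rfl⟩
        exact ⟨f, hf, inv_eq_of_mul_eq_one_right (h.bB (tB f hf))⟩ }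
  have BtB : Bt ≤ B := by rintro _ ⟨f, hf, rfl⟩; exact tB f hf
  have XBt : zpowers x ≤ N_(Bt) := le_norm_iff.2 (by
    rintro y hy _ ⟨f, hf, rfl⟩
    have e := commX hy ht
    refine ⟨y * f * y⁻¹, ⟨conj_mem_of_norm (h.nE (h.XA hy)) (KE hf), ?_⟩, ?_⟩
    · have : y * f * y⁻¹ * t * (y * f * y⁻¹)⁻¹ * t⁻¹ = y * (f * t * f⁻¹ * t⁻¹) * y⁻¹ := by
        calc y * f * y⁻¹ * t * (y * f * y⁻¹)⁻¹ * t⁻¹
            = y * f * y⁻¹ * (t * y) * f⁻¹ * (t * y)⁻¹ := by group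
          _ = _ := by rw [← e]; group
      rw [this]
      exact conj_mem_of_norm (h.nB (h.XA hy)) hf.2
    · calc y * (t * f * t⁻¹ * f⁻¹) * y⁻¹
          = (y * t) * f * (y * t)⁻¹ * y * f⁻¹ * y⁻¹ := by group
        _ = _ := by rw [e]; group)
  have Bt0 : Bt ≠ ⊥ := by
    refine ne_bot_of_mem (x := t * f1 * t⁻¹ * f1⁻¹) ⟨f1, F0K hf1, rfl⟩ fun h1 => hne ?_
    have e2 : t * f1 = f1 * t := by
      calc t * f1 = t * f1 * t⁻¹ * f1⁻¹ * (f1 * t) := by group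
        _ = _ := by rw [h1, one_mul]
    have e3 := mem_cent1.1 (F0t hf1)
    have e4 := h.cB (b := β) ⟨KE hβ.1, hβ.2⟩ (KE (F0K hf1))
    rw [et] at e2
    apply mul_left_cancel (a := t0)
    apply mul_right_cancel (b := β)
    calc t0 * (f1 * f0) * β = (t0 * f1) * (f0 * β) := by group
      _ = t0 * (f0 * β) * f1 := by rw [← e3, e2]; group
      _ = t0 * f0 * (β * f1) := by group
      _ = _ := by rw [e4]; group
  obtain ⟨b, ⟨⟨f, hf, rfl⟩, hb⟩, hb1⟩ := exists_mem_ne_one (pg_fix_ne_bot Nat.prime_two h.X2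
    (pg_le h.E2 (BtB.trans inf_le_left)) XBt Bt0)
  exact ⟨f, KE hf, _, tB f hf, hb1, (mem_cent.1 hb x (mem_zpowers x)).symm, rfl⟩

end St
end H25.FE
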