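import Cfsg.Agent.H25.FE2

/-! Flavell cluster, part T4 (3): the ambient contradiction. -/

set_option autoImplicit false
open Cfsg BG Subgroup Cfsg.Agent.H06.FV
open scoped commutatorElement
universe u
namespace H25.FE

variable {Γ : Type u} [Group Γ] {p r : ℕ} {V R A U : Subgroup Γ} {x : Γ}

/-- the elements of the abelian group `V` inverted by `b` -/
def invBy (V : Subgroup Γ) (hV : IsMulCommutative V) (b : Γ) : Subgroup Γ where
  carrier := {v | v ∈ V ∧ b * v * b⁻¹ = v⁻¹}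
  one_mem' := ⟨V.one_mem, by simp⟩
  mul_mem' := by
    rintro v w ⟨hv, hv'⟩ ⟨hw, hw'⟩
    refine ⟨V.mul_mem hv hw, ?_⟩
    calc b * (v * w) * b⁻¹ = (b * v * b⁻¹) * (b * w * b⁻¹) := by group
      _ = (w * v)⁻¹ := by rw [hv', hw']; group
      _ = _ := by rw [mul_comm_of_abelian hV hw hv]
  inv_mem' := by
    rintro v ⟨hv, hv'⟩
    refine ⟨V.inv_mem hv, ?_⟩
    calc b * v⁻¹ * b⁻¹ = (b * v * b⁻¹)⁻¹ := by group
      _ = _ := by rw [hv']

theorem norm_invBy {hV : IsMulCommutative V} {b : Γ} {H : Subgroup Γ} (h1 : H ≤ N_(V))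
    (h2 : ∀ g ∈ H, b * g = g * b) : H ≤ N_(invBy V hV b) := le_norm_iff.2 (by
  rintro g hg v ⟨hv, hv'⟩
  refine ⟨conj_mem_of_norm (h1 hg) hv, ?_⟩
  calc b * (g * v * g⁻¹) * b⁻¹ = (b * g) * v * (b * g)⁻¹ := by group
    _ = g * (b * v * b⁻¹) * g⁻¹ := by rw [h2 g hg]; group
    _ = _ := by rw [hv']; group)

theorem inv_comm_elt {hV : IsMulCommutative V} {b v : Γ} (hb : b ∈ N_(V)) (hb2 : b * b = 1)
    (hv : v ∈ V) : b * (v⁻¹ * (b * v * b⁻¹)) * b⁻¹ = (v⁻¹ * (b * v * b⁻¹))⁻¹ := by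
  calc b * (v⁻¹ * (b * v * b⁻¹)) * b⁻¹ = b * v⁻¹ * b⁻¹ * ((b * b) * v * (b * b)⁻¹) := by group
    _ = _ := by rw [hb2]; group

/-- `z` acts on `L` as `±1` -/
def PM (L : Subgroup Γ) (z : Γ) : Prop :=
  (∀ v ∈ L, z * v * z⁻¹ = v) ∨ ∀ v ∈ L, z * v * z⁻¹ = v⁻¹

theorem PM.mul {L : Subgroup Γ} {z w : Γ} (hz : PM L z) (hw : PM L w) : PM L (z * w) := by
  have e : ∀ v, z * w * v * (z * w)⁻¹ = z * (w * v * w⁻¹) * z⁻¹ := fun v => by group
  rcases hz with hz | hz <;> rcases hw with hw | hw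
  · exact Or.inl fun v hv => by rw [e, hw v hv, hz v hv]
  · exact Or.inr fun v hv => by rw [e, hw v hv, hz _ (L.inv_mem hv)]
  · exact Or.inr fun v hv => by rw [e, hw v hv, hz v hv]
  · exact Or.inl fun v hv => by rw [e, hw v hv, hz _ (L.inv_mem hv), inv_inv]

theorem PM.conj {L : Subgroup Γ} {z s : Γ} (hz : PM L z) (hs : s ∈ N_(L)) :
    PM L (s * z * s⁻¹) := by
  have e : ∀ v, s * z * s⁻¹ * v * (s * z * s⁻¹)⁻¹ = s * (z * (s⁻¹ * v * s) * z⁻¹) * s⁻¹ :=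
    fun v => by group
  rcases hz with hz | hz
  · exact Or.inl fun v hv => by rw [e, hz _ (conj_mem_of_norm' hs hv)]; group
  · exact Or.inr fun v hv => by rw [e, hz _ (conj_mem_of_norm' hs hv)]; group

theorem PM.sq {L : Subgroup Γ} {z y v : Γ} (hz : PM L z) (hy : y ∈ N_(L)) (hv : v ∈ L) :
    z * y * z * y * v * (z * y * z * y)⁻¹ = y * y * v * (y * y)⁻¹ := by
  have e : z * y * z * y * v * (z * y * z * y)⁻¹
      = z * (y * (z * (y * v * y⁻¹) * z⁻¹) * y⁻¹) * z⁻¹ := by group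
  have h1 := conj_mem_of_norm hy hv
  rcases hz with hz | hz
  · rw [e, hz _ h1, hz _ (conj_mem_of_norm hy h1)]; group
  · rw [e, hz _ h1, hz _ (conj_mem_of_norm hy (L.inv_mem h1))]
    simp only [mul_inv_rev, inv_inv, mul_assoc]

namespace St

theorem false [Finite Γ] (h : St p r V R A U x) : False := by
  obtain ⟨t, ht, hto⟩ := exists_orderOf_eq_prime Nat.prime_two h.two_dvd
  have ht1 : t ≠ 1 := by rintro rfl; simp at hto
  have ht2 : t * t = 1 := by rw [← pow_two, ← hto, pow_orderOf_eq_one]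
  have hi : t⁻¹ = t := inv_eq_of_mul_eq_one_right ht2
  obtain ⟨f, hf, b, hb, hb1, hbx, eb⟩ := h.exists_bf ht ht1 ht2
  set E := ⁅A, R⁆ with hE
  have hb2 := h.bB hb
  have hbX : ∀ g ∈ zpowers x, b * g = g * b := fun g hg =>
    mem_cent1.1 (cent1_le_of_mem_zpowers hg (mem_cent1.2 hbx))
  have hbf := h.cB hb hf
  have e1 : f * t * f⁻¹ = t * b := by rw [eb, hi]; calc
    f * t * f⁻¹ = (t * t) * f * t * f⁻¹ := by rw [ht2]; group
    _ = _ := by group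
  have e2 : f * (t * b) * f⁻¹ = t := by
    calc f * (t * b) * f⁻¹ = f * t * f⁻¹ * (f * b) * f⁻¹ := by group
      _ = t * (b * b) := by rw [e1, ← hbf]; group
      _ = t := by rw [hb2, mul_one]
  set L := invBy V h.ab b with hL
  have mL : ∀ v, v ∈ L ↔ v ∈ V ∧ b * v * b⁻¹ = v⁻¹ := fun v => Iff.rfl
  have LV : L ≤ V := fun v hv => hv.1
  have EV : E ≤ N_(V) := h.EA.trans h.AV
  have XL : zpowers x ≤ N_(L) := norm_invBy h.XV hbX
  have EL : E ≤ N_(L) := norm_invBy EV fun g hg => h.cB hb hg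
  have RL : R ≤ N_(L) := norm_invBy h.md.RV fun g hg => (mem_cent.1 hb.2 g hg).symm
  have back : ∀ w ∈ L, w * t = t * w → f⁻¹ * w * f ∈ U := by
    intro w hw e
    refine h.memU ht ht1 ht2 (conj_mem_of_norm' (EV hf) hw.1) ?_
    calc t * (f⁻¹ * w * f) * t⁻¹ = f⁻¹ * (f * t * f⁻¹ * w * (f * t * f⁻¹)⁻¹) * f := by group
      _ = f⁻¹ * (t * (b * w * b⁻¹) * t⁻¹) * f := by rw [e1]; group
      _ = f⁻¹ * (t * w * t⁻¹)⁻¹ * f := by rw [hw.2]; group
      _ = _ := by rw [← e]; group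
  have L0 : ∃ u ∈ U, u ∈ L ∧ u ≠ 1 := by
    obtain ⟨v, hv, hne⟩ : ∃ v ∈ V, v * b ≠ b * v := by
      by_contra hcon
      exact hb1 (h.triv (h.EA hb.1) (mem_cent.2 fun a ha => by
        by_contra h'; exact hcon ⟨a, ha, h'⟩))
    have hw : v⁻¹ * (b * v * b⁻¹) ∈ L :=
      ⟨V.mul_mem (V.inv_mem hv) (conj_mem_of_norm (EV hb.1) hv),
        inv_comm_elt (hV := h.ab) (EV hb.1) hb2 hv⟩
    have hw1 : v⁻¹ * (b * v * b⁻¹) ≠ 1 := fun h' => hne (by
      calc v * b = v * (v⁻¹ * (b * v * b⁻¹)) * b := by rw [h', mul_one]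
        _ = _ := by group)
    generalize v⁻¹ * (b * v * b⁻¹) = w at hw hw1
    by_cases e : w * t = t * w
    · refine ⟨_, back w hw e, conj_mem_of_norm' (EL hf) hw, fun h' => hw1 ?_⟩
      calc w = f * (f⁻¹ * w * f) * f⁻¹ := by group
        _ = 1 := by rw [h']; group
    · have h1 : w⁻¹ * (t * w * t⁻¹) ∈ L := L.mul_mem (L.inv_mem hw) (conj_mem_of_norm (XL ht) hw)
      refine ⟨_, h.memU ht ht1 ht2 h1.1 (inv_comm_elt (hV := h.ab) (h.XV ht) ht2 hw.1), h1,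
        fun h' => e ?_⟩
      calc w * t = w * (w⁻¹ * (t * w * t⁻¹)) * t := by rw [h', mul_one]
        _ = _ := by group
  obtain ⟨u0, hu0, hu0L, hu1⟩ := L0
  have UL : U ≤ L := fun u hu => by
    by_cases e : u = 1
    · rw [e]; exact L.one_mem
    obtain ⟨y, hy, rfl⟩ := h.tr u0 hu0 u hu hu1 e
    exact conj_mem_of_norm (XL hy) hu0L
  have ctb : ∀ u ∈ U, t * b * u * (t * b)⁻¹ = u := fun u hu => by
    calc t * b * u * (t * b)⁻¹ = t * (b * u * b⁻¹) * t⁻¹ := by group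
      _ = (t * u * t⁻¹)⁻¹ := by rw [(UL hu).2]; group
      _ = u := by rw [h.invU ht ht1 ht2 hu, inv_inv]
  set U' := cj f U with hU'
  have U'L : U' ≤ L := cj_le_of_mem_norm UL (EL hf)
  have ct' : ∀ w ∈ U', w * t = t * w := by
    intro w hw
    obtain ⟨u, hu, rfl⟩ := mem_cj'.1 hw
    calc f * u * f⁻¹ * t = f * (t * b * u * (t * b)⁻¹) * f⁻¹ * (f * (t * b) * f⁻¹) := by
          rw [ctb u hu, e2]
      _ = f * (t * b) * f⁻¹ * (f * u * f⁻¹) := by group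
      _ = _ := by rw [e2]
  have cx' : ∀ w ∈ U', w * x = x * w := fun w hw => h.fixW ht ht1 (LV (U'L hw)) (ct' w hw)
  have cx'' : ∀ u ∈ U, f * x⁻¹ * f⁻¹ * u * (f * x⁻¹ * f⁻¹)⁻¹ = u := by
    intro u hu
    have := h.fixW ht ht1 (conj_mem_of_norm' (EV hf) (h.UV hu)) (show f⁻¹ * u * f * t = _ by
      calc f⁻¹ * u * f * t = f⁻¹ * (t * b * u * (t * b)⁻¹) * (f * t * f⁻¹) * f := by
            rw [ctb u hu]; group
        _ = f⁻¹ * (t * b) * f * (f⁻¹ * u * f) := by rw [e1]; group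
        _ = _ := by rw [← e1]; group)
    calc f * x⁻¹ * f⁻¹ * u * (f * x⁻¹ * f⁻¹)⁻¹ = f * x⁻¹ * (f⁻¹ * u * f * x) * f⁻¹ := by group
      _ = u := by rw [this]; group
  set y := x * f * x⁻¹ * f⁻¹ with hy
  have xX := mem_zpowers x
  have yE : y ∈ E := E.mul_mem (conj_mem_of_norm (h.nE h.xA) hf) (E.inv_mem hf)
  have yU : ∀ u ∈ U, y * u * y⁻¹ = x * u * x⁻¹ := fun u hu => by
    calc y * u * y⁻¹ = x * (f * x⁻¹ * f⁻¹ * u * (f * x⁻¹ * f⁻¹)⁻¹) * x⁻¹ := by rw [hy]; group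
      _ = _ := by rw [cx'' u hu]
  have xU : ∀ u ∈ U, x * u * x⁻¹ ∈ U := fun u hu => conj_mem_of_norm (h.XU xX) hu
  have x4 : x ^ 4 = 1 := by
    by_contra hne
    refine hu1 (h.fix1 (pow_mem xX 4) hne hu0 ?_)
    have h1 := h.bB (h.sB yE)
    have h2 : y * y * (y * y) * u0 * (y * y * (y * y))⁻¹ = x ^ 4 * u0 * (x ^ 4)⁻¹ := by
      calc y * y * (y * y) * u0 * (y * y * (y * y))⁻¹
          = y * (y * (y * (y * u0 * y⁻¹) * y⁻¹) * y⁻¹) * y⁻¹ := by group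
        _ = _ := by
          rw [yU _ hu0, yU _ (xU _ hu0), yU _ (xU _ (xU _ hu0)), yU _ (xU _ (xU _ (xU _ hu0)))]
          simp only [pow_succ, pow_zero, one_mul, mul_inv_rev, mul_assoc]
    rw [h1] at h2
    calc u0 * x ^ 4 = (1 * u0 * 1⁻¹) * x ^ 4 := by group
      _ = _ := by rw [h2]; group
  have disj : U' ⊓ U = ⊥ := by
    rw [eq_bot_iff]
    intro w hw
    exact h.fix1 ht ht1 hw.2 (ct' w hw.1)
  have supL : U' ⊔ U = L := by
    refine le_antisymm (sup_le U'L UL) fun v hv => ?_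
    obtain ⟨w, hw, u, hu, rfl⟩ := h.dp.mem.1 hv.1
    have hwL : w ∈ L := (L.mul_mem_cancel_right (UL hu)).1 hv
    exact mul_mem (mem_sup_left (mem_cj.2 (back w hwL (mem_cent.1 hw.2 t ht).symm)))
      (mem_sup_right hu)
  have UU' : U ≤ N_(U') := le_norm_of_cent (le_cent_of_abelian h.ab h.UV (U'L.trans LV))
  have cL : Nat.card L = Nat.card U * Nat.card U := by
    rw [← supL, card_sup_of_disj UU' disj, hU', card_cj]
  have rL : ∀ {M : Subgroup Γ}, M ≤ V → R ≤ N_(M) → r ∣ Nat.card M - 1 := fun hM hn =>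
    h.fpf A.one_mem hM (by rwa [cj_one])
  have hr := rL LV RL
  have cU : Nat.card U = 5 ∧ r = 3 := by
    have h1 := h.cardX
    have h2 := h.two_dvd
    have h3 := one_lt_card h.U0
    rw [card_zpowers] at h1 h2
    have h4 : orderOf x ∣ 4 := orderOf_dvd_of_pow_eq_one x4
    have h5 := Nat.le_of_dvd (by norm_num) h4
    have h6 : Nat.card U = 3 ∨ Nat.card U = 5 := by
      have : orderOf x ≠ 0 := (orderOf_pos x).ne'
      omega
    have r2 := h.r2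
    have rp := h.md.rp
    rcases h6 with h6 | h6
    · rw [cL, h6] at hr
      exact absurd ((Nat.prime_dvd_prime_iff_eq rp Nat.prime_two).1
        (rp.dvd_of_dvd_pow (show r ∣ 2 ^ 3 from hr))) r2
    · rw [cL, h6] at hr
      refine ⟨h6, ?_⟩
      rcases (Nat.Prime.dvd_mul rp).1 (show r ∣ 2 ^ 3 * 3 from hr) with h7 | h7
      · exact absurd ((Nat.prime_dvd_prime_iff_eq rp Nat.prime_two).1 (rp.dvd_of_dvd_pow h7)) r2
      · exact (Nat.prime_dvd_prime_iff_eq rp Nat.prime_three).1 h7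
  obtain ⟨cU, r3⟩ := cU
  have Up : (Nat.card U).Prime := by rw [cU]; norm_num
  have xx : x * x = t := by
    have h1 : x * x ≠ 1 := by
      intro h'
      have h2 : orderOf x ∣ 2 := orderOf_dvd_of_pow_eq_one (by rw [pow_two, h'])
      have h3 := h.cardX
      rw [card_zpowers, cU] at h3
      rw [h3] at h2
      omega
    have h2 : x * x * (x * x) = 1 := by
      rw [← x4]; simp only [pow_succ, pow_zero, one_mul, mul_assoc]
    have h3 := h.invU (mul_mem xX xX) h1 h2 hu0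
    have h4 := h.invU ht ht1 ht2 hu0
    by_contra hne
    refine hu1 (h.fix1 (mul_mem (inv_mem ht) (mul_mem xX xX))
      (fun h' => hne (inv_mul_eq_one.1 h').symm) hu0 ?_)
    calc u0 * (t⁻¹ * (x * x)) = t⁻¹ * (t * u0 * t⁻¹) * (x * x) := by group
      _ = _ := by rw [h4, ← h3]; group
  have PB : ∀ β ∈ E ⊓ C_(R), PM L β := by
    intro β hβ
    have h1 := rL (M := L ⊓ C_[β]) (inf_le_left.trans LV)
      (norm_inf RL (norm_cent1 (le_cent1_iff.2 hβ.2)))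
    have h2 : Nat.card ↥(L ⊓ C_[β]) ∣ 5 ^ 2 := by
      have := card_dvd (inf_le_left : L ⊓ C_[β] ≤ L)
      rwa [cL, cU] at this
    obtain ⟨i, hi2, hc⟩ := (Nat.dvd_prime_pow (by norm_num)).1 h2
    rw [hc, r3] at h1
    have : i = 0 ∨ i = 2 := by
      interval_cases i
      · exact Or.inl rfl
      · norm_num at h1
      · exact Or.inr rfl
    rcases this with rfl | rfl
    · right
      intro v hv
      have h3 : L ⊓ C_[β] = ⊥ := BG.card_eq_one.1 hc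
      have hv' := conj_mem_of_norm (EL hβ.1) hv
      have h4 : v * (β * v * β⁻¹) ∈ L ⊓ C_[β] := ⟨L.mul_mem hv hv', mem_cent1.2 (by
        have e := h.commV hv.1 hv'.1
        have hb' := h.bB hβ
        calc v * (β * v * β⁻¹) * β = (β * β) * v * (β * β)⁻¹ * β * v := by rw [hb']; group
          _ = β * (β * v * β⁻¹ * v) := by group
          _ = _ := by rw [← e])⟩
      rw [h3, mem_bot] at h4
      exact eq_inv_of_mul_eq_one_right h4
    · left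
      intro v hv
      have h3 : L ⊓ C_[β] = L := eq_of_le_of_card_eq inf_le_left (by rw [hc, cL, cU]; norm_num)
      rw [← h3] at hv
      rw [← mem_cent1.1 hv.2]; group
  obtain ⟨x0, hx0, e, he, ex⟩ := h.dec h.xA
  have P0 : ∀ g ∈ E, PM L (g * x * g⁻¹ * x⁻¹) ↔ PM L (g * x0 * g⁻¹ * x0⁻¹) := by
    intro g hg
    obtain ⟨β, hβ, e'⟩ := h.shift hx0.1 he hg
    rw [← ex] at e'
    refine ⟨fun h' => ?_, fun h' => e' ▸ h'.mul (PB β hβ)⟩
    have := h'.mul (PB β hβ)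
    rwa [e', mul_assoc _ β β, h.bB hβ, mul_one] at this
  have PR : ∀ g ∈ E, ∀ s ∈ R, PM L (g * x * g⁻¹ * x⁻¹) →
      PM L (s * g * s⁻¹ * x * (s * g * s⁻¹)⁻¹ * x⁻¹) := by
    intro g hg s hs h'
    rw [P0 _ (conj_mem_of_norm (h.RE hs) hg)]
    have h1 := ((P0 g hg).1 h').conj (RL hs)
    have e' := mem_cent.1 hx0.2 s hs
    have : s * g * s⁻¹ * x0 * (s * g * s⁻¹)⁻¹ * x0⁻¹ = s * (g * x0 * g⁻¹ * x0⁻¹) * s⁻¹ := by
      calc s * g * s⁻¹ * x0 * (s * g * s⁻¹)⁻¹ * x0⁻¹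
          = s * g * s⁻¹ * (x0 * s) * g⁻¹ * (x0 * s)⁻¹ := by group
        _ = _ := by rw [← e']; group
    rwa [this]
  have yU' : y ∈ N_(U') := by
    have h1 : x ∈ N_(U') := cent_le_norm _ (mem_cent.2 cx')
    have h2 : f * x⁻¹ * f⁻¹ ∈ N_(U') := by
      rw [hU', ← cj_norm]; exact conj_mem_cj f (inv_mem (h.XU xX))
    have : y = x * (f * x⁻¹ * f⁻¹) := by rw [hy]; group
    rw [this]; exact mul_mem h1 h2
  have Py : PM L (y * x * y⁻¹ * x⁻¹) := by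
    left
    intro v hv
    rw [← supL] at hv
    obtain ⟨w, hw, u, hu, rfl⟩ := (mem_sup_norm UU').1 hv
    have k1 : y * x * y⁻¹ * x⁻¹ * w * (y * x * y⁻¹ * x⁻¹)⁻¹ = w := by
      have k2 := cx' w hw
      have k3 := cx' _ (conj_mem_of_norm' yU' hw)
      calc y * x * y⁻¹ * x⁻¹ * w * (y * x * y⁻¹ * x⁻¹)⁻¹
          = y * x * y⁻¹ * x⁻¹ * (w * x) * y * x⁻¹ * y⁻¹ := by group
        _ = y * (x * (y⁻¹ * w * y)) * x⁻¹ * y⁻¹ := by rw [k2]; group
        _ = w := by rw [← k3]; group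
    have k4 : y * x * y⁻¹ * x⁻¹ * u * (y * x * y⁻¹ * x⁻¹)⁻¹ = u := by
      have k5 := conj_mem_of_norm' (h.XU xX) hu
      have k6 := yU _ (conj_mem_of_norm' (h.XU xX) k5)
      have k7 := yU _ k5
      calc y * x * y⁻¹ * x⁻¹ * u * (y * x * y⁻¹ * x⁻¹)⁻¹
          = y * x * y⁻¹ * (x * (x⁻¹ * (x⁻¹ * u * x) * x) * x⁻¹) * y * x⁻¹ * y⁻¹ := by group
        _ = y * (x⁻¹ * u * x) * y⁻¹ := by rw [← k6]; group
        _ = u := by rw [k7]; group
    calc y * x * y⁻¹ * x⁻¹ * (w * u) * (y * x * y⁻¹ * x⁻¹)⁻¹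
        = (y * x * y⁻¹ * x⁻¹ * w * (y * x * y⁻¹ * x⁻¹)⁻¹)
          * (y * x * y⁻¹ * x⁻¹ * u * (y * x * y⁻¹ * x⁻¹)⁻¹) := by group
      _ = _ := by rw [k1, k4]
  have PN : ∀ g ∈ E, PM L (g * x * g⁻¹ * x⁻¹) → g ∈ N_(U) := by
    intro g hg h'
    rw [← inv_mem_iff]
    refine mem_norm_of_cj_le fun v hv => ?_
    obtain ⟨u, hu, rfl⟩ := mem_cj'.1 hv
    refine h.memU ht ht1 ht2 (conj_mem_of_norm (inv_mem (EV hg)) (h.UV hu)) ?_
    have k1 := h'.sq (XL xX) (UL hu)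
    have k2 := h.invU ht ht1 ht2 hu
    rw [xx, k2] at k1
    calc t * (g⁻¹ * u * g⁻¹⁻¹) * t⁻¹ = g⁻¹ * (g * x * g⁻¹ * x⁻¹ * x * (g * x * g⁻¹ * x⁻¹) * x * u
          * (g * x * g⁻¹ * x⁻¹ * x * (g * x * g⁻¹ * x⁻¹) * x)⁻¹) * g := by rw [← xx]; group
      _ = _ := by rw [k1]; group
  have yN : ∀ s ∈ R, y ∈ N_(cj s U) := by
    intro s hs
    have := PN _ (conj_mem_of_norm (h.RE (inv_mem hs)) yE) (PR y yE _ (inv_mem hs) Py)
    rw [← cj_norm, mem_cj]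
    simpa using this
  have nN : ∀ s ∈ R, s ≠ 1 → s ∉ N_(U) := fun s hs hs1 hn =>
    h.star A.one_mem (by rw [cj_one, ← zpowers_eq_of_prime h.Rp hs hs1]; exact zpowers_le.2 hn)
  obtain ⟨s, hs, hsU, hsU'⟩ : ∃ s ∈ R, cj s U ≠ U ∧ cj s U ≠ U' := by
    obtain ⟨s, hs, hs1⟩ := exists_mem_ne_one (ne_bot_of_prime h.Rp)
    by_cases k : cj s U = U'
    · refine ⟨s⁻¹, inv_mem hs, fun k' => nN _ (inv_mem hs) (inv_ne_one.2 hs1)
        (cj_eq_self_iff.1 k'), fun k' => ?_⟩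
      rw [← k', cj_eq_cj_iff, inv_inv] at k
      refine nN _ (mul_mem hs hs) (fun k2 => ?_) k
      have k3 : orderOf s ∣ 2 := orderOf_dvd_of_pow_eq_one (by rw [pow_two, k2])
      have k4 : orderOf s ∣ 3 := by rw [← r3, ← h.md.cR]; exact orderOf_dvd_card hs
      exact hs1 (orderOf_eq_one_iff.1 (Nat.eq_one_of_dvd_coprimes (by norm_num) k3 k4))
    · exact ⟨s, hs, fun k' => nN _ hs hs1 (cj_eq_self_iff.1 k'), k⟩
  have Mp : (Nat.card (cj s U)).Prime := by rw [card_cj]; exact Up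
  have U'p : (Nat.card U').Prime := by rw [hU', card_cj]; exact Up
  obtain ⟨l, hl, hl1⟩ := exists_mem_ne_one (ne_bot_of_prime Mp)
  have hlL : l ∈ L := cj_le_of_mem_norm UL (RL hs) hl
  have zl := zpowers_eq_of_prime Mp hl hl1
  have hl' := conj_mem_of_norm (yN s hs) hl
  rw [← zl] at hl'
  obtain ⟨c, hc⟩ := hl'
  rw [← supL] at hlL
  obtain ⟨w, hw, u, hu, rfl⟩ := (mem_sup_norm UU').1 hlL
  have hu' : u ≠ 1 := by
    rintro rfl
    rw [mul_one] at zl hl1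
    exact hsU' (zl.symm.trans (zpowers_eq_of_prime U'p hw hl1))
  have hw' : w ≠ 1 := by
    rintro rfl
    rw [one_mul] at zl hl1
    exact hsU (zl.symm.trans (zpowers_eq_of_prime Up hu hl1))
  have k1 : (w * u) ^ c = w ^ c * u ^ c :=
    Commute.mul_zpow (h.commV (LV (U'L hw)) (h.UV hu)) c
  have k2 : (w ^ c)⁻¹ * (y * w * y⁻¹) = u ^ c * (x * u * x⁻¹)⁻¹ := by
    have : w ^ c * u ^ c = y * w * y⁻¹ * (x * u * x⁻¹) := by
      rw [← k1, ← yU u hu]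
      calc (w * u) ^ c = y * (w * u) * y⁻¹ := hc
        _ = _ := by group
    calc (w ^ c)⁻¹ * (y * w * y⁻¹)
        = (w ^ c)⁻¹ * (y * w * y⁻¹ * (x * u * x⁻¹)) * (x * u * x⁻¹)⁻¹ := by group
      _ = _ := by rw [← this]; group
  have k3 : (w ^ c)⁻¹ * (y * w * y⁻¹) = 1 := eq_one_of_mem_of_disj disj
    (mul_mem (inv_mem (zpow_mem hw c)) (conj_mem_of_norm yU' hw))
    (k2 ▸ mul_mem (zpow_mem hu c) (inv_mem (xU u hu)))
  have k4 : x * u * x⁻¹ = u ^ c := by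
    rw [k3] at k2
    exact (mul_inv_eq_one.1 k2.symm).symm
  have k5 : y * w * y⁻¹ = w ^ c := (inv_mul_eq_one.1 k3).symm
  obtain ⟨u', hu'U, rfl⟩ := mem_cj'.1 hw
  have k6 : x⁻¹ * u' * x = u' ^ c := by
    have k7 := cx' _ (conj_mem_cj f (conj_mem_of_norm' (h.XU xX) hu'U))
    rw [conj_zpow] at k5
    calc x⁻¹ * u' * x = f⁻¹ * (f * (x⁻¹ * u' * x) * f⁻¹ * x * x⁻¹) * f := by group
      _ = f⁻¹ * (y * (f * u' * f⁻¹) * y⁻¹) * f := by rw [k7, hy]; group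
      _ = _ := by rw [k5]; group
  have k8 : x * u' * x⁻¹ = u' ^ c := by
    rw [← zpowers_eq_of_prime Up hu hu'] at hu'U
    obtain ⟨k, rfl⟩ := hu'U
    change x * u ^ k * x⁻¹ = (u ^ k) ^ c
    rw [← conj_zpow, k4, ← zpow_mul, ← zpow_mul, mul_comm]
  have k9 : u' = 1 := h.fix1 ht ht1 hu'U (by
    rw [← xx]
    calc u' * (x * x) = x * (x⁻¹ * u' * x) * x := by group
      _ = _ := by rw [k6, ← k8]; group)
  exact hw' (by rw [k9]; group)

end St
end H25.FE
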