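import Cfsg.Agent.H25.FE3

/-! Flavell cluster, part T4: `EStmt` from `KitStmt`. -/

set_option autoImplicit false
open Cfsg BG Subgroup Cfsg.Agent.H06.FV
open scoped commutatorElement
universe u
namespace H25.FE

theorem hconj {P : Type*} [Group P] (a : MulAut P) (x : P) :
    (SemidirectProduct.inr a * SemidirectProduct.inl x * (SemidirectProduct.inr a)⁻¹ :
      P ⋊[MonoidHom.id (MulAut P)] MulAut P) = SemidirectProduct.inl (a x) := by
  have := SemidirectProduct.inl_aut (φ := MonoidHom.id (MulAut P)) a x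
  rw [map_inv] at this
  exact this.symm

theorem thmE (hK : KitStmt.{u}) : EStmt.{u} := by
  intro T _ _ p r hp hp2 hr hT hab σ A X hσ hfpf hσA hrA hpA hXA hX0 hXc htr
  let Γ := T ⋊[MonoidHom.id (MulAut T)] MulAut T
  haveI : Finite Γ := Finite.of_equiv _ SemidirectProduct.equivProd.symm
  let ι : T →* Γ := SemidirectProduct.inl
  let κ : MulAut T →* Γ := SemidirectProduct.inr
  have hi : Function.Injective ι := SemidirectProduct.inl_injective
  have hk : Function.Injective κ := SemidirectProduct.inr_injective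
  have hc : ∀ a t, κ a * ι t * (κ a)⁻¹ = ι (a t) := hconj
  have hc' : ∀ a t, ι t * κ a = κ a * ι t → a t = t := fun a t e => hi (by
    rw [← hc, ← e, mul_inv_cancel_right])
  obtain ⟨ψ, rfl⟩ := cyclic_iff.1 hXc
  have hψ : ψ ≠ 1 := fun h => hX0 (by rw [h, zpowers_one_eq_bot])
  have hT1 : ∃ t : T, t ≠ 1 := by
    by_contra h
    push Not at h
    exact hψ (MulEquiv.ext fun t => by rw [h (ψ t), h ((1 : MulAut T) t)])
  obtain ⟨t1, ht1⟩ := hT1
  have hσ1 : σ ≠ 1 := fun h => ht1 (hfpf t1 (by rw [h]; rfl))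
  haveI := Fact.mk hr
  have hoσ : orderOf (κ σ) = r := by
    rw [orderOf_injective κ hk]; exact orderOf_eq_prime hσ hσ1
  have hN : ∀ H : Subgroup Γ, H ≤ N_(ι.range) := fun H g _ => by
    haveI : ι.range.Normal := by
      rw [show ι.range = _ from SemidirectProduct.range_inl_eq_ker_rightHom]; infer_instance
    rw [normalizer_eq_top]; trivial
  have hTp : IsPGroup p ι.range := by
    rw [MonoidHom.range_eq_map]; exact (hT.to_subgroup ⊤).map ι
  have hTa : IsMulCommutative ι.range := abelian_iff.2 (le_cent_iff.2 (by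
    rintro _ ⟨a, rfl⟩ _ ⟨b, rfl⟩
    rw [← map_mul, hab, map_mul]))
  have hfix : ι.range ⊓ C_(zpowers (κ σ)) = ⊥ := by
    rw [eq_bot_iff]
    rintro _ ⟨⟨t, rfl⟩, h2⟩
    rw [mem_bot, hfpf t (hc' σ t (mem_cent.1 h2 _ (mem_zpowers _)).symm), map_one]
  have hcR : Nat.card (zpowers (κ σ)) = r := by rw [card_zpowers, hoσ]
  have hrp : r ≠ p := by
    rintro rfl
    exact pg_fix_ne_bot hr (pg_of_card_eq hcR) hTp (hN _)
      (ne_bot_of_mem (x := ι t1) ⟨t1, rfl⟩ fun h => ht1 (hi (h.trans (map_one ι).symm))) hfix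
  have hM : Md p r (omegaOne p ι.range) (zpowers (κ σ)) :=
    ⟨hp, hp2, hr, omega_elemAb p hTa, hcR, norm_omega p (hN _),
      eq_bot_mono hfix (inf_le_inf_right _ (omega_le _ _))⟩
  have hRA : zpowers (κ σ) ≤ N_(A.map κ) := zpowers_le.2 (le_normalizer_map κ ⟨σ, hσA, rfl⟩)
  have hcA : Nat.card (A.map κ) = Nat.card A := card_map_of_injective hk
  have hpAR : ¬ p ∣ Nat.card ↥(A.map κ ⊔ zpowers (κ σ)) :=
    not_dvd_sup hp (hcA ▸ hpA) (by
      rw [hcR]; exact fun h => hrp ((Nat.prime_dvd_prime_iff_eq hp hr).1 h).symm) hRA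
  have hfa : (A.map κ ⊔ zpowers (κ σ)) ⊓ C_(omegaOne p ι.range) = ⊥ := by
    have h1 : (A.map κ ⊔ zpowers (κ σ)) ⊓ C_(omegaOne p ι.range) ≤ C_(ι.range) :=
      H01.le_centralizer_of_prime_order (hN _)
        (pg_coprime hp hTp (not_dvd_of_le hpAR inf_le_left)).symm fun v hv hvp a ha => by
          have h2 : orderOf v = p := pg_prime_eq hp hTp hvp (orderOf_dvd_card hv)
          exact (mem_cent.1 ha.2 v (mem_omega hv (by rw [← h2, pow_orderOf_eq_one]))).symm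
    rw [eq_bot_iff]
    intro g hg
    have h2 : A.map κ ⊔ zpowers (κ σ) ≤ κ.range :=
      sup_le (map_le_range κ A) (zpowers_le.2 ⟨σ, rfl⟩)
    obtain ⟨a, rfl⟩ := h2 hg.1
    have : a = 1 := MulEquiv.ext fun t => hc' a t (mem_cent.1 (h1 hg) _ ⟨t, rfl⟩)
    rw [this, map_one]; exact one_mem _
  have hU : ⁅omegaOne p ι.range, zpowers (κ ψ)⁆ ≤
      (closure {y : T | ∃ φ ∈ zpowers ψ, ∃ t : T, y = φ t * t⁻¹}).map ι :=
    commutator_le.2 fun v hv g hg => by
      obtain ⟨t, rfl⟩ := omega_le _ _ hv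
      rw [← MonoidHom.map_zpowers] at hg
      obtain ⟨φ, hφ, rfl⟩ := hg
      refine ⟨φ t⁻¹ * t⁻¹⁻¹, subset_closure ⟨φ, hφ, t⁻¹, rfl⟩, ?_⟩
      rw [hab, map_mul, ← hc, inv_inv, map_inv, commutatorElement_def]
      simp only [mul_assoc]
  refine St.false (p := p) (r := r) (V := omegaOne p ι.range) (R := zpowers (κ σ)) (A := A.map κ)
    (x := κ ψ) ⟨hM, hK Γ p r _ _ hM, norm_omega p (hN _), hRA, hfa, hcA ▸ hpA, hcA ▸ hrA,
      ⟨ψ, hXA (mem_zpowers ψ), rfl⟩, fun h => hψ (hk (h.trans (map_one κ).symm)), rfl, ?_⟩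
  intro a ha b hb ha1 hb1
  obtain ⟨a, ha', rfl⟩ := hU ha
  obtain ⟨b, hb', rfl⟩ := hU hb
  obtain ⟨φ, hφ, e⟩ := htr a b ha' hb' (fun h => ha1 (by rw [h, map_one]))
    (fun h => hb1 (by rw [h, map_one]))
  refine ⟨κ φ, ?_, by rw [hc, e]⟩
  rw [← MonoidHom.map_zpowers]
  exact ⟨φ, hφ, rfl⟩

end H25.FE
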