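import Cfsg.Agent.L.Fz0

/-!
Part T of S5446: the 276 involutions are the pairs of a 24-set.
-/

set_option autoImplicit false

namespace H25.FzT

section core
variable {X : Type*} [CommGroup X] {D : Set X}

structure Hy (D : Set X) : Prop where
  sq : ∀ x : X, x * x = 1
  o : (1 : X) ∉ D
  d : D.ncard = 276
  b : ∀ t ∈ D, {s | s ∈ D ∧ s * t ∈ D}.ncard = 44
  one : ∀ t ∈ D, ∀ s ∈ D, ∀ r ∈ D, s * t ∈ D → r * t ∈ D → r ≠ s → r ≠ s * t → (s * r ∈ D ↔ s * r * t ∉ D)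
  tr : ∀ t ∈ D, ∀ s ∈ D, ∀ r ∈ D, ∀ w ∈ D, s * t ∈ D → r * t ∈ D → w * t ∈ D → r ≠ s * t → w ≠ s * t → r ≠ w →
    s * r ∈ D → s * w ∈ D → r * w ∈ D

def Q (D : Set X) (t s : X) : Set X := {r | r = s ∨ r ∈ D ∧ r * t ∈ D ∧ r ≠ s * t ∧ s * r ∈ D}
def O (D : Set X) (t s : X) : Set X := insert 1 (insert t (Q D t s))

variable {t s : X}

theorem Hy.sq' (h : Hy D) (a b : X) : a * (a * b) = b := by rw [← mul_assoc, h.sq, one_mul]

theorem Hy.eq (h : Hy D) {a b : X} (e : a * b = 1) : a = b := by rw [← h.sq' a b, e, mul_one]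

theorem qD (hs : s ∈ D) (st : s * t ∈ D) {r : X} (hr : r ∈ Q D t s) : r ∈ D ∧ r * t ∈ D := by
  rcases hr with rfl | r
  exacts [⟨hs, st⟩, ⟨r.1, r.2.1⟩]

theorem Hy.q2 (h : Hy D) (ht : t ∈ D) (hs : s ∈ D) (st : s * t ∈ D) {r w : X} (hr : r ∈ Q D t s) (hw : w ∈ Q D t s) (n : r ≠ w) :
    r * w ∈ D ∧ w ≠ r * t ∧ r * w * t ∉ D := by
  suffices k : r * w ∈ D ∧ w ≠ r * t from ⟨k.1, k.2, (h.one t ht r (qD hs st hr).1 w (qD hs st hw).1 (qD hs st hr).2 (qD hs st hw).2 n.symm k.2).1 k.1⟩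
  rcases hr with rfl | a <;> rcases hw with rfl | b
  · exact (n rfl).elim
  · exact ⟨b.2.2.2, b.2.2.1⟩
  · exact ⟨mul_comm w r ▸ a.2.2.2, fun e => a.2.2.1 (by rw [e, mul_assoc, h.sq, mul_one])⟩
  · refine ⟨h.tr t ht s hs r a.1 w b.1 st a.2.1 b.2.1 a.2.2.1 b.2.2.1 n a.2.2.2 b.2.2.2, fun e => ?_⟩
    refine (h.one t ht s hs r a.1 st a.2.1 (fun e => h.o ?_) a.2.2.1).1 a.2.2.2 ?_
    · rw [← h.sq s]; nth_rw 2 [← e]; exact a.2.2.2
    · rw [mul_assoc, ← e]; exact b.2.2.2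

theorem Hy.p2 (h : Hy D) (ht : t ∈ D) (hs : s ∈ D) (st : s * t ∈ D) {a b : X} (ha : a ∈ insert t (Q D t s)) (hb : b ∈ insert t (Q D t s))
    (n : a ≠ b) : a ∈ D ∧ a * b ∈ D := by
  rcases ha with rfl | ha <;> rcases hb with rfl | hb
  · exact (n rfl).elim
  · exact ⟨ht, mul_comm b a ▸ (qD hs st hb).2⟩
  · exact qD hs st ha
  · exact ⟨(qD hs st ha).1, (h.q2 ht hs st ha hb n).1⟩

theorem Hy.p3 (h : Hy D) (ht : t ∈ D) (hs : s ∈ D) (st : s * t ∈ D) {a b c : X} (ha : a ∈ insert t (Q D t s)) (hb : b ∈ insert t (Q D t s))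
    (hc : c ∈ insert t (Q D t s)) (ab : a ≠ b) (ac : a ≠ c) (bc : b ≠ c) : c ≠ b * a ∧ b * c * a ∉ D := by
  suffices k : c ≠ b * a from ⟨k, (h.one a (h.p2 ht hs st ha hb ab).1 b (h.p2 ht hs st hb ha ab.symm).1 c (h.p2 ht hs st hc ha ac.symm).1
    (h.p2 ht hs st hb ha ab.symm).2 (h.p2 ht hs st hc ha ac.symm).2 bc.symm k).1 (h.p2 ht hs st hb hc bc).2⟩
  rcases ha with rfl | ha
  · exact (h.q2 ht hs st (hb.resolve_left ab.symm) (hc.resolve_left ac.symm) bc).2.1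
  rcases hb with rfl | hb
  · exact mul_comm a b ▸ (h.q2 ht hs st ha (hc.resolve_left bc.symm) ac).2.1
  rcases hc with rfl | hc
  · exact fun e => (h.q2 ht hs st ha hb ab).2.1 (by rw [e, mul_comm b a, h.sq'])
  · exact fun e => (h.q2 ht hs st hb ha ab.symm).2.2 (e ▸ (qD hs st hc).2)

theorem Hy.o2 (h : Hy D) (ht : t ∈ D) (hs : s ∈ D) (st : s * t ∈ D) {a b : X} (ha : a ∈ O D t s) (hb : b ∈ O D t s) (n : a ≠ b) :
    a * b ∈ D := by
  have q : ∀ c ∈ insert t (Q D t s), c ∈ D := fun c hc => hc.elim (fun e => e ▸ ht) fun e => (qD hs st e).1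
  rcases ha with rfl | ha <;> rcases hb with rfl | hb
  · exact (n rfl).elim
  · rw [one_mul]; exact q _ hb
  · rw [mul_one]; exact q _ ha
  · exact (h.p2 ht hs st ha hb n).2

theorem Hy.o4 (h : Hy D) (ht : t ∈ D) (hs : s ∈ D) (st : s * t ∈ D) {i j k l : X} (hi : i ∈ O D t s) (hj : j ∈ O D t s) (hk : k ∈ O D t s)
    (hl : l ∈ O D t s) (ij : i ≠ j) (ik : i ≠ k) (il : i ≠ l) (jk : j ≠ k) (jl : j ≠ l) (kl : k ≠ l) : i * j ≠ k * l := fun e => by
  rcases hi with rfl | hi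
  · exact (h.p3 ht hs st (hl.resolve_left il.symm) (hk.resolve_left ik.symm) (hj.resolve_left ij.symm) kl.symm jl.symm jk.symm).1
      (by rw [← e, one_mul])
  rcases hj with rfl | hj
  · exact (h.p3 ht hs st (hl.resolve_left jl.symm) (hk.resolve_left jk.symm) hi kl.symm il.symm ik.symm).1 (by rw [← e, mul_one])
  rcases hk with rfl | hk
  · exact (h.p3 ht hs st hj hi (hl.resolve_left kl.symm) ij.symm jl il).1 (by rw [e, one_mul])
  rcases hl with rfl | hl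
  · exact (h.p3 ht hs st hj hi hk ij.symm jk ik).1 (by rw [e, mul_one])
  · exact (h.p3 ht hs st hk hi hj ik.symm jk.symm ij).2 (by rw [e, mul_comm, h.sq']; exact (h.p2 ht hs st hl hk kl.symm).1)

theorem Hy.non (h : Hy D) (ht : t ∈ D) (hs : s ∈ D) (st : s * t ∈ D) {i j k l : X} (hi : i ∈ O D t s) (hj : j ∈ O D t s) (hk : k ∈ O D t s)
    (hl : l ∈ O D t s) (ij : i ≠ j) (ik : i ≠ k) (il : i ≠ l) (jk : j ≠ k) (jl : j ≠ l) (kl : k ≠ l) : i * j * (k * l) ∉ D := by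
  have m : ∀ a b, l * a * (l * b) = a * b := fun a b => by rw [mul_mul_mul_comm, h.sq, one_mul]
  have := (h.one (l * k) (h.o2 ht hs st hl hk kl.symm) (l * i) (h.o2 ht hs st hl hi il.symm) (l * j) (h.o2 ht hs st hl hj jl.symm)
    (by rw [m]; exact h.o2 ht hs st hi hk ik) (by rw [m]; exact h.o2 ht hs st hj hk jk) (fun e => ij (mul_left_cancel e).symm)
    (by rw [m]; exact h.o4 ht hs st hl hj hi hk jl.symm il.symm kl.symm ij.symm jk ik)).1 (by rw [m]; exact h.o2 ht hs st hi hj ij)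
  rwa [m, mul_comm l k] at this

theorem Hy.inj (h : Hy D) (ht : t ∈ D) (hs : s ∈ D) (st : s * t ∈ D) {i j k l : X} (hi : i ∈ O D t s) (hj : j ∈ O D t s) (hk : k ∈ O D t s)
    (hl : l ∈ O D t s) (ij : i ≠ j) (e : i * j = k * l) : i = k ∧ j = l ∨ i = l ∧ j = k := by
  by_cases ik : i = k
  · exact Or.inl ⟨ik, mul_left_cancel (ik ▸ e : i * j = i * l)⟩
  by_cases il : i = l
  · exact Or.inr ⟨il, mul_left_cancel ((il ▸ e : i * j = k * i).trans (mul_comm _ _))⟩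
  refine (h.o4 ht hs st hi hj hk hl ij ik il (fun jk => il ?_) (fun jl => ik ?_) (fun kl => ij (h.eq ?_)) e).elim
  · exact mul_left_cancel ((mul_comm _ _).trans (jk ▸ e : i * j = j * l))
  · exact mul_right_cancel (jl ▸ e : i * j = k * j)
  · rw [e, kl, h.sq]

theorem Hy.card [Finite X] (h : Hy D) (ht : t ∈ D) (hs : s ∈ D) (st : s * t ∈ D) : (O D t s).ncard = 24 := by
  have tt : ∀ r, r * t * t = r := fun r => by rw [mul_assoc, h.sq, mul_one]
  have e : {s | s ∈ D ∧ s * t ∈ D} = Q D t s ∪ (· * t) '' Q D t s := by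
    ext r
    refine ⟨fun ⟨a, b⟩ => ?_, ?_⟩
    · by_cases r1 : r = s
      · exact Or.inl (Or.inl r1)
      by_cases r2 : r = s * t
      · exact Or.inr ⟨s, Or.inl rfl, r2.symm⟩
      by_cases r3 : s * r ∈ D
      · exact Or.inl (Or.inr ⟨a, b, r2, r3⟩)
      · exact Or.inr ⟨r * t, Or.inr ⟨b, by rw [tt]; exact a, fun e => r1 (mul_right_cancel e), by
          rw [← mul_assoc]; exact not_not.1 (mt (h.one t ht s hs r a st b r1 r2).2 r3)⟩, tt r⟩
    · rintro (a | ⟨w, a, rfl⟩)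
      exacts [qD hs st a, ⟨(qD hs st a).2, by rw [tt]; exact (qD hs st a).1⟩]
  have c := h.b t ht
  have dj : Disjoint (Q D t s) ((· * t) '' Q D t s) := Set.disjoint_left.2 (by
    rintro r a ⟨w, b, rfl⟩
    exact (h.q2 ht hs st b a fun n => h.o (left_eq_mul.1 n ▸ ht)).2.1 rfl)
  rw [e, Set.ncard_union_eq dj, Set.ncard_image_of_injective _ (mul_left_injective t)] at c
  rw [O, Set.ncard_insert_of_notMem (by
    rintro (e | e)
    exacts [h.o (e ▸ ht), h.o (qD hs st e).1]), Set.ncard_insert_of_notMem fun e => h.o (h.sq t ▸ (qD hs st e).2)]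
  omega

theorem Hy.surj [Finite X] (h : Hy D) (ht : t ∈ D) (hs : s ∈ D) (st : s * t ∈ D) {x : X} (hx : x ∈ D) :
    ∃ i ∈ O D t s, ∃ j ∈ O D t s, i ≠ j ∧ i * j = x := by
  classical
  have := Fintype.ofFinite (O D t s)
  let F : Sym2 (O D t s) → X := Sym2.lift ⟨fun i j => i.1 * j.1, fun i j => mul_comm _ _⟩
  let f : {a : Sym2 (O D t s) // ¬ a.IsDiag} → D := fun a => ⟨F a.1, by
    obtain ⟨⟨i, j⟩, n⟩ := a
    exact h.o2 ht hs st i.2 j.2 fun e => n (Sym2.mk_isDiag_iff.2 (Subtype.ext e))⟩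
  have fi : Function.Injective f := by
    rintro ⟨⟨i, j⟩, n⟩ ⟨⟨k, l⟩, m⟩ e
    exact Subtype.ext (Sym2.eq_iff.2 ((h.inj ht hs st i.2 j.2 k.2 l.2 (fun e => n (Sym2.mk_isDiag_iff.2 (Subtype.ext e)))
      (congrArg Subtype.val e)).imp (And.imp Subtype.ext Subtype.ext) (And.imp Subtype.ext Subtype.ext)))
  obtain ⟨⟨⟨i, j⟩, n⟩, e⟩ := ((Nat.bijective_iff_injective_and_card f).2 ⟨fi, by
    rw [Nat.card_eq_fintype_card, Sym2.card_subtype_not_diag, ← Nat.card_eq_fintype_card, Nat.card_coe_set_eq, Nat.card_coe_set_eq,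
      h.card ht hs st, h.d]; rfl⟩).2 ⟨x, hx⟩
  exact ⟨i, i.2, j, j.2, fun e => n (Sym2.mk_isDiag_iff.2 (Subtype.ext e)), congrArg Subtype.val e⟩

theorem Hy.sh [Finite X] (h : Hy D) (ht : t ∈ D) (hs : s ∈ D) (st : s * t ∈ D) {i j y : X} (hi : i ∈ O D t s) (hj : j ∈ O D t s) (ij : i ≠ j)
    (hy : y ∈ D) (a : i * j * y ∈ D) : i * y ∈ O D t s ∨ j * y ∈ O D t s := by
  obtain ⟨k, hk, l, hl, kl, rfl⟩ := h.surj ht hs st hy
  by_contra! n
  refine h.non ht hs st hi hj hk hl ij (fun e => n.1 ?_) (fun e => n.1 ?_) (fun e => n.2 ?_) (fun e => n.2 ?_) kl a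
  · rwa [e, h.sq']
  · rwa [e, mul_comm k, h.sq']
  · rwa [e, h.sq']
  · rwa [e, mul_comm k, h.sq']

theorem Hy.mv [Finite X] (h : Hy D) (ht : t ∈ D) (hs : s ∈ D) (st : s * t ∈ D) (φ : X →* X) (fi : Function.Injective φ)
    (fD : ∀ x ∈ D, φ x ∈ D) : ∃ a, ∀ i ∈ O D t s, a * φ i ∈ O D t s := by
  obtain ⟨a, ha, j, hj, aj, e, hk⟩ : ∃ a ∈ O D t s, ∃ j ∈ O D t s, a ≠ j ∧ a * j = φ t ∧ a * φ s ∈ O D t s := by
    obtain ⟨i, hi, j, hj, ij, e⟩ := h.surj ht hs st (fD t ht)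
    rcases h.sh ht hs st hi hj ij (fD s hs) (by rw [e, ← map_mul, mul_comm]; exact fD _ st) with r | r
    exacts [⟨i, hi, j, hj, ij, e, r⟩, ⟨j, hj, i, hi, ij.symm, (mul_comm _ _).trans e, r⟩]
  refine ⟨a, ?_⟩
  rintro r (rfl | rfl | rfl | ⟨r1, r2, r3, r4⟩)
  · rwa [map_one, mul_one]
  · rwa [← e, h.sq']
  · exact hk
  by_contra n
  have b1 := (h.sh ht hs st ha hj aj (fD r r1) (by rw [e, ← map_mul, mul_comm]; exact fD _ r2)).resolve_left n
  have b2 := (h.sh ht hs st ha hk (fun e => h.o (left_eq_mul.1 e ▸ fD s hs)) (fD r r1)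
    (by rw [h.sq', ← map_mul]; exact fD _ r4)).resolve_left n
  rcases h.inj ht hs st hj b1 hk b2 (fun e => h.o (left_eq_mul.1 e ▸ fD r r1)) (by rw [h.sq', h.sq']) with q | q
  · refine h.o ((?_ : φ (s * t) = 1) ▸ fD _ st)
    rw [map_mul, ← e, q.1, h.sq', h.sq]
  · refine r3 (fi ?_)
    rw [map_mul, ← e, q.1, ← mul_assoc, mul_comm (φ s), h.sq']

end core

universe u

theorem t : L.Fz.TStmt.{u} := by
  intro G _ _ A M B D z h nb xb
  have sq : ∀ x : A, x * x = 1 := fun x => Subtype.ext (h.sq _ x.2)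
  let _ : CommGroup A := { (inferInstance : Group A) with
    mul_comm := fun a b => by
      rw [← inv_eq_of_mul_eq_one_right (sq (a * b)), mul_inv_rev, inv_eq_of_mul_eq_one_right (sq a), inv_eq_of_mul_eq_one_right (sq b)] }
  have nc : ∀ S : Set G, S ⊆ A → (Subtype.val ⁻¹' S : Set A).ncard = S.ncard := fun S hS =>
    Set.ncard_preimage_of_injective_subset_range Subtype.val_injective (by rwa [Subtype.range_coe])
  have k : Hy (Subtype.val ⁻¹' D : Set A) := ⟨sq, fun e => (h.DA _ e).2 rfl, (nc D fun x e => (h.DA x e).1).trans nb.d,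
    fun t ht => (nc {s | s ∈ D ∧ s * t ∈ D} fun x e => (h.DA x e.1).1).trans (nb.b _ ht),
    fun t ht s hs r hr a b c d => xb.one _ ht _ hs _ hr a b (fun e => c (Subtype.ext e)) fun e => d (Subtype.ext e),
    fun t ht s hs r hr w hw a b c d e f => xb.tr _ ht _ hs _ hr _ hw a b c (fun e => d (Subtype.ext e)) (fun q => e (Subtype.ext q))
      fun e => f (Subtype.ext e)⟩
  obtain ⟨t, ht⟩ := Set.nonempty_of_ncard_ne_zero (k.d.trans_ne (by decide))
  obtain ⟨s, hs, st⟩ := Set.nonempty_of_ncard_ne_zero ((k.b t ht).trans_ne (by decide))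
  have c : Nat.card (O (Subtype.val ⁻¹' D : Set A) t s) = 24 := k.card ht hs st
  have ex : ∀ m : M, ∃ ρ : Equiv.Perm (O (Subtype.val ⁻¹' D : Set A) t s), ∀ i j : O (Subtype.val ⁻¹' D : Set A) t s,
      (m : G) * (i.1 * j.1 : A) * (m : G)⁻¹ = ((ρ i).1 * (ρ j).1 : A) := fun m => by
    let φ : A →* A := MonoidHom.mk' (fun x => ⟨m * x * (m : G)⁻¹, h.nM _ m.2 _ x.2⟩) fun a b => Subtype.ext (by simp)
    have fi : Function.Injective φ := fun a b e => Subtype.ext (by simpa [φ] using congrArg Subtype.val e)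
    obtain ⟨a, ha⟩ := k.mv ht hs st φ fi fun x hx => h.Dc _ m.2 _ hx
    refine ⟨Equiv.ofBijective (fun i => ⟨a * φ i.1, ha _ i.2⟩) (Finite.injective_iff_bijective.1 fun i j e =>
      Subtype.ext (fi (mul_left_cancel (congrArg Subtype.val e : a * φ i.1 = a * φ j.1)))), fun i j => ?_⟩
    show _ = ((a * φ i.1 * (a * φ j.1) : A) : G)
    rw [mul_mul_mul_comm, sq, one_mul, ← map_mul]
    rfl
  choose ρ hρ using ex
  have un : ∀ a b : Equiv.Perm (O (Subtype.val ⁻¹' D : Set A) t s), (∀ i j, (a i).1 * (a j).1 = (b i).1 * (b j).1) → a = b := fun a b e => by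
    ext1 i
    have := Fintype.ofFinite (O (Subtype.val ⁻¹' D : Set A) t s)
    obtain ⟨j, l, n1, n2, n3⟩ : ∃ j l, i ≠ j ∧ i ≠ l ∧ j ≠ l := by
      obtain ⟨x, y, w, xy, xw, yw⟩ := Fintype.two_lt_card_iff.1 (show 2 < Fintype.card (O (Subtype.val ⁻¹' D : Set A) t s) by
        rw [← Nat.card_eq_fintype_card, c]; decide)
      by_cases a : i = x
      · exact ⟨y, w, a ▸ xy, a ▸ xw, yw⟩
      by_cases b : i = y
      exacts [⟨x, w, a, b ▸ yw, xw⟩, ⟨x, y, a, b, xy⟩]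
    by_contra n
    have q : ∀ j, i ≠ j → a j = b i := fun j ij => Subtype.ext ((k.inj ht hs st (a i).2 (a j).2 (b i).2 (b j).2
      (fun e => ij (a.injective (Subtype.ext e))) (e i j)).resolve_left fun r => n (Subtype.ext r.1)).2
    exact n3 (a.injective ((q j n1).trans (q l n2).symm))
  refine ⟨_, fun i j => (i.1 * j.1 : A), MonoidHom.mk' ρ fun m n => un _ _ fun i j => Subtype.ext ?_, c, fun i => congrArg Subtype.val (sq _),
    fun i j l => congrArg Subtype.val (by rw [mul_assoc, k.sq'] : i.1 * j.1 * (j.1 * l.1) = i.1 * l.1),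
    fun i j => congrArg Subtype.val (mul_comm _ _), fun i j n => k.o2 ht hs st i.2 j.2 fun e => n (Subtype.ext e), fun x hx => ?_,
    fun i j a b n e => (k.inj ht hs st i.2 j.2 a.2 b.2 (fun e => n (Subtype.ext e)) (Subtype.ext e)).imp (And.imp Subtype.ext Subtype.ext)
      (And.imp Subtype.ext Subtype.ext),
    fun i j a b n1 n2 n3 n4 n5 n6 => k.non ht hs st i.2 j.2 a.2 b.2 (fun e => n1 (Subtype.ext e)) (fun e => n2 (Subtype.ext e))
      (fun e => n3 (Subtype.ext e)) (fun e => n4 (Subtype.ext e)) (fun e => n5 (Subtype.ext e)) fun e => n6 (Subtype.ext e), hρ⟩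
  · rw [← hρ, Equiv.Perm.mul_apply, Equiv.Perm.mul_apply, ← hρ, ← hρ, Subgroup.coe_mul M m n]
    group
  · obtain ⟨i, hi, j, hj, n, e⟩ := k.surj ht hs st (x := ⟨x, (h.DA x hx).1⟩) hx
    exact ⟨⟨i, hi⟩, ⟨j, hj⟩, fun e => n (congrArg Subtype.val e), congrArg Subtype.val e⟩

end H25.FzT
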