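import Cfsg.Agent.H06.HS0
import Cfsg.Agent.H06.FV5
import Cfsg.Agent.H22.FK2
import Cfsg.Agent.S3767

/-!
# The step `M5` of the general Hall-Higman-Shult theorem (helper25)
-/

set_option autoImplicit false
open Cfsg BG Subgroup
open scoped commutatorElement
universe u
namespace H25.MF
open Cfsg.Agent.H06.FV Cfsg.Agent.H06.HS

/-- the hypotheses of `M5Stmt` -/
structure St {Γ : Type u} [Group Γ] (p r : ℕ) (V R F : Subgroup Γ) (a : Γ) : Prop where
  md : Md p r V R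
  FV : F ≤ N_(V)
  aV : a ∈ N_(V)
  ff : ((F ⊔ zpowers a) ⊔ R) ⊓ C_(V) = ⊥
  pg : IsPGroup 2 F
  r2 : r ≠ 2
  FR : ⁅F, R⁆ = F
  pa : IsPGroup p (zpowers a)
  aR : a ∈ C_(R)
  aF : a ∈ N_(F)
  aB : a ∈ C_(F ⊓ C_(R))

variable {Γ : Type u} [Group Γ] [Finite Γ] {p r : ℕ} {V R F : Subgroup Γ} {a : Γ}

theorem St.core (h : St p r V R F a) (hm : ∀ U < V, (F ⊔ zpowers a) ⊔ R ≤ N_(U) → ⁅F, zpowers a⁆ ≤ C_(U)) : a ∈ C_(F) := by
  by_contra h0
  have hp := h.md.pp
  have hr := h.md.rp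
  have RF : R ≤ N_(F) := h.FR ▸ right_le_norm_comm F R
  have aF : zpowers a ≤ N_(F) := zpowers_le.2 h.aF
  have aR : zpowers a ≤ C_(R) := zpowers_le.2 h.aR
  have DF : ⁅F, zpowers a⁆ ≤ F := comm_le_left aF
  generalize hX : (F ⊔ zpowers a) ⊔ R = X at hm
  have FX : F ≤ X := hX ▸ le_sup_left.trans le_sup_left
  have aX : zpowers a ≤ X := hX ▸ le_sup_right.trans le_sup_left
  have ff : X ⊓ C_(V) = ⊥ := hX ▸ h.ff
  have XV : X ≤ N_(V) := hX ▸ sup_le (sup_le h.FV (zpowers_le.2 h.aV)) h.md.RV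
  have XD : X ≤ N_(⁅F, zpowers a⁆) := hX ▸ sup_le (sup_le (left_le_norm_comm _ _) (right_le_norm_comm _ _))
    (norm_comm RF (le_norm_of_cent (cent_symm aR)))
  have D0 : ¬ ⁅F, zpowers a⁆ ≤ C_(V) := fun e => h0 (cent_symm (comm_eq_bot.1
    (eq_bot_iff.2 ((le_inf (DF.trans FX) e).trans ff.le))) (mem_zpowers a))
  generalize ⁅F, zpowers a⁆ = D at hm DF XD D0
  have ff' {E : Subgroup Γ} (hE : E ≤ F) : (E ⊔ R) ⊓ C_(V) = ⊥ :=
    eq_bot_iff.2 ((inf_le_inf_right _ (sup_le (hE.trans FX) (hX ▸ le_sup_right))).trans ff.le)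
  have cop {E : Subgroup Γ} (hE : E ≤ F) : (Nat.card E).Coprime (Nat.card V) :=
    pg_coprime_ne Nat.prime_two hp (pg_le h.pg hE) h.md.ea.pg h.md.p2.symm
  have sV := pg_sol hp h.md.ea.pg
  have pr := H22.FK.pr h.md (ff' le_rfl)
  have copR {E : Subgroup Γ} (hE : E ≤ F) : (Nat.card R).Coprime (Nat.card E) :=
    pg_coprime_ne hr Nat.prime_two (pg_of_card_eq h.md.cR) (pg_le h.pg hE) h.r2
  obtain ⟨c1, -⟩ := H22.FK.m3 h.md h.FV (ff' le_rfl) h.pg h.r2 h.FR
  -- the centre of `F` is semiregular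
  have hz : ∀ z ∈ F ⊓ C_(R), z ≠ 1 → V ⊓ C_[z] = ⊥ := fun z hz z1 => by
    have zF : zpowers z ≤ F := zpowers_le.2 hz.1
    have zX : X ≤ C_(zpowers z) := by
      rw [← hX]
      exact cent_symm (zpowers_le.2 (le_cent_sup (le_cent_sup (inf_le_right.trans' c1.ge)
        (cent_symm (zpowers_le.2 h.aB))) inf_le_right hz))
    have nZ := le_norm_of_cent zX
    have d := coprime_abelian_dprod (zF.trans h.FV) (cop zF) h.md.ea.1
    have l1 : V ⊓ C_(zpowers z) < V := lt_of_le_of_ne inf_le_left fun e =>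
      z1 (mem_bot.1 (ff.le ⟨FX hz.1, cent_symm (e.ge.trans inf_le_right) (mem_zpowers z)⟩))
    have l2 : ⁅V, zpowers z⁆ = V := by
      by_contra e
      refine D0 ?_
      rw [← d.sup]
      exact le_cent_sup (hm _ l1 (norm_inf XV (norm_cent nZ)))
        (hm _ (lt_of_le_of_ne (comm_le_left (zF.trans h.FV)) e) (norm_comm XV nZ))
    have := d.disj
    rwa [l2, inf_eq_left.2 inf_le_left, cent_zpowers] at this
  -- `⟨a⟩` is faithful on `F`
  have hc : ∀ c ∈ zpowers a, c ∈ C_(F) → c = 1 := fun c ca cF => by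
    have cA : zpowers c ≤ zpowers a := zpowers_le.2 ca
    have zX : X ≤ C_(zpowers c) := by
      rw [← hX]
      exact cent_symm (zpowers_le.2 (mem_inf.2 ⟨mem_inf.2 ⟨cF, mem_cent.2 fun b hb => (commute_of_mem_zpowers hb ca).eq⟩, aR ca⟩ |>
        ((cent_sup _ _).trans (congrArg (· ⊓ _) (cent_sup _ _))).ge))
    have nZ := le_norm_of_cent zX
    have cV := (cA.trans aX).trans XV
    have l1 := hm _ (nil_comm_lt cV (pg_nil hp (pg_sup h.md.ea.pg (pg_le h.pa cA) cV)) (H22.FK.Vne h.md (ff' le_rfl))) (norm_comm XV nZ)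
    have l2 : ⁅V, D⁆ = V := by
      by_contra e
      exact D0 (coprime_cent_of_comm (DF.trans h.FV) (cop DF) (.inr sV)
        (cent_symm (hm _ (lt_of_le_of_ne (comm_le_left (DF.trans h.FV)) e) (norm_comm XV XD))))
    have l3 := three_subgroup (H := V) (K := zpowers c) (A := D) (comm_eq_bot.2 (cent_symm l1))
      (by rw [comm_eq_bot.2 (cent_symm ((DF.trans FX).trans zX)), commutator_bot_left])
    rw [comm_comm D, l2] at l3
    exact mem_bot.1 (ff.le ⟨aX ca, cent_symm (comm_eq_bot.1 l3) (mem_zpowers c)⟩)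
  have F0 : F ≠ ⊥ := fun e => h0 (e ▸ le_cent_bot (mem_top a))
  obtain ⟨⟨n, n1, n2, n3⟩, -⟩ := H22.FK.m4 h.md h.FV (ff' le_rfl) h.pg h.r2 h.FR F0 hz
  obtain ⟨b, ba, ob⟩ := exists_orderOf_eq_prime hp (H := zpowers a) (pg_dvd hp h.pa fun e =>
    h0 (mem_bot.1 (e.le (mem_zpowers a)) ▸ one_mem _))
  have b1 : b ≠ 1 := fun e => hp.one_lt.ne (by rw [← ob, e, orderOf_one])
  have bR : R ≤ C_[b] := cent_zpowers b ▸ cent_symm ((zpowers_le.2 ba).trans aR)
  have hY : F ⊓ C_[b] ≤ C_(R) := by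
    have nY : R ≤ N_(F ⊓ C_[b]) := norm_inf RF (norm_cent1 bR)
    have EY := comm_le_left nY
    have EF := EY.trans inf_le_left
    by_contra e
    obtain ⟨⟨m, m1, m2, -⟩, -⟩ := H22.FK.m4 h.md (EF.trans h.FV) (ff' EF) (pg_le h.pg EF) h.r2
      (coprime_comm_comm nY (copR inf_le_left) (.inl (pg_sol hr (pg_of_card_eq h.md.cR)))) (fun e' => e (comm_eq_bot.1 e'))
      fun z k => hz z ⟨EF k.1, k.2⟩
    obtain rfl : m = n := Nat.pow_right_injective le_rfl (Nat.succ_injective (m1.symm.trans n1))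
    have := eq_of_le_of_card_ge EF (by rw [m2, n2])
    exact b1 (hc b ba (cent_symm (cent_zpowers b ▸ this.ge.trans (EY.trans inf_le_right)) (mem_zpowers b)))
  obtain ⟨s, s1, os⟩ := exists_orderOf_eq_prime hr (H := R) h.md.cR.symm.dvd
  have sb : Commute s b := mem_cent1.1 (bR s1)
  have cpr : r.Coprime p := (Nat.coprime_primes hr hp).2 pr.symm
  have oH : Nat.card (zpowers (s * b)) = r * p := by
    rw [card_zpowers, sb.orderOf_mul_eq_mul_orderOf_of_coprime (by rwa [os, ob]), os, ob]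
  have := Agent.S3767.result F (zpowers (s * b))
    ⟨(H22.FK.sp h.md h.FV (ff' le_rfl) h.pg h.r2 h.FR).1, by rw [← n3, ← c1, ← H22.FK.cen_map, card_map_of_injective F.subtype_injective]⟩
    n n2 inferInstance (oH ▸ Nat.Coprime.mul_left ((Nat.coprime_primes hr Nat.prime_two).2 h.r2) ((Nat.coprime_primes hp Nat.prime_two).2 h.md.p2))
    (zpowers_le.2 (mul_mem (RF s1) (aF ba))) (by
      rintro _ ⟨i, rfl⟩ x1
      rw [H22.FK.cen_map, c1]
      simp only at x1 ⊢
      refine le_antisymm (le_inf inf_le_left ?_) (le_inf inf_le_left fun y hy => mem_cent1.2 (Commute.zpow_right (Commute.mul_right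
        (mem_cent.1 hy.2 s s1).symm (mem_cent.1 (zpowers_le.2 h.aB ba) y hy)) i).eq)
      have e1 : ((s * b) ^ i) ^ p = (s ^ i) ^ p := by
        rw [sb.mul_zpow, (sb.zpow_zpow i i).mul_pow, ← zpow_natCast (b ^ i), ← zpow_mul, mul_comm i, zpow_mul, zpow_natCast, ← ob,
          pow_orderOf_eq_one, one_zpow, mul_one]
      have e2 : ((s * b) ^ i) ^ r = (b ^ i) ^ r := by
        rw [sb.mul_zpow, (sb.zpow_zpow i i).mul_pow, ← zpow_natCast (s ^ i), ← zpow_mul, mul_comm i, zpow_mul, zpow_natCast, ← os,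
          pow_orderOf_eq_one, one_zpow, one_mul]
      have pw (k : ℕ) : C_[(s * b) ^ i] ≤ C_[((s * b) ^ i) ^ k] := fun y hy => mem_cent1.2 (Commute.pow_right (mem_cent1.1 hy) k).eq
      by_cases k1 : ((s * b) ^ i) ^ p = 1
      · have k2 : ((s * b) ^ i) ^ r ≠ 1 := fun k2 => x1 (by
          have := pow_gcd_eq_one.2 ⟨k2, k1⟩
          rwa [cpr, pow_one] at this)
        have := cent1_eq_of_prime (A := zpowers b) (by rwa [card_zpowers, ob]) (e2 ▸ pow_mem (zpow_mem (mem_zpowers b) i) r) k2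
        exact (inf_le_inf_left _ ((pw r).trans (this.trans (cent_zpowers b)).le)).trans hY
      · exact inf_le_right.trans ((pw p).trans (cent1_eq_of_prime (h.md.cR ▸ hr) (e1 ▸ pow_mem (zpow_mem s1 i) p) k1).le))
  rw [oH] at this
  have n0 : 1 < 2 ^ n := Nat.one_lt_two_pow fun e => h.r2 (by rw [n1, e]; rfl)
  have p1 := hp.two_le
  obtain k | k := this
  · have := Nat.le_of_dvd (by omega) k; nlinarith
  · have := Nat.le_of_dvd (by omega) k
    have : r * 2 ≤ r * p := Nat.mul_le_mul_left _ p1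
    omega

open SemidirectProduct in
theorem St.main (h : St p r V R F a) : a ∈ C_(F) := by
  induction hn : Nat.card V using Nat.strong_induction_on generalizing Γ with
  | _ n ih =>
  refine h.core fun U hU hX => ?_
  by_cases U0 : U = ⊥
  · exact U0 ▸ le_cent_bot
  have FY : F ≤ N_(U) := (le_sup_left.trans le_sup_left).trans hX
  have aY : zpowers a ≤ N_(U) := (le_sup_right.trans le_sup_left).trans hX
  have RY : R ≤ N_(U) := le_sup_right.trans hX
  have eU := h.md.ea.of_le hU.le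
  have fU : U ⊓ C_(R) = ⊥ := eq_bot_iff.2 ((inf_le_inf_right _ hU.le).trans h.md.fpf.le)
  let T := U ⋊[MonoidHom.id (MulAut U)] MulAut U
  have : Finite T := Finite.of_equiv _ SemidirectProduct.equivProd.symm
  let i : MulAut U →* T := inr
  let j : U →* T := inl
  have jj : Function.Injective j := inl_injective
  have cj : ∀ (a : MulAut U) (x : U), i a * j x * (i a)⁻¹ = j (a x) := fun a x => by
    rw [← map_inv]; exact (inl_aut (φ := MonoidHom.id _) a x).symm
  let θ : N_(U) →* T := i.comp U.normalizerMonoidHom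
  have cθ (y : N_(U)) (x : U) : θ y * j x * (θ y)⁻¹ = j ⟨y * x * (y : Γ)⁻¹, conj_mem_of_norm y.2 x.2⟩ := cj _ _
  have nV : θ.range ≤ N_(j.range) := le_norm_iff.2 (by
    rintro _ ⟨a, rfl⟩ _ ⟨x, rfl⟩
    exact ⟨_, (cθ a x).symm⟩)
  have fV : θ.range ⊓ C_(j.range) = ⊥ := eq_bot_iff.2 (by
    rintro _ ⟨⟨y, rfl⟩, k⟩
    show i _ ∈ _
    rw [show U.normalizerMonoidHom y = 1 from MulEquiv.ext fun x => jj (by
      rw [← cj]; exact (congrArg (· * _) (mem_cent.1 k _ ⟨x, rfl⟩).symm).trans (mul_inv_cancel_right _ _)), map_one]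
    exact one_mem _)
  have ker (y : N_(U)) (k : θ y = 1) : (y : Γ) ∈ C_(U) := mem_cent.2 fun x hx => by
    have := cθ y ⟨x, hx⟩
    rw [k, one_mul, inv_one, mul_one] at this
    exact (mul_inv_eq_iff_eq_mul.1 (congrArg Subtype.val (jj this)).symm).symm
  have mp {K : Subgroup Γ} (hK : K ≤ N_(U)) : (K.subgroupOf N_(U)).map N_(U).subtype = K := by
    rw [subgroupOf_map_subtype, inf_eq_left.2 hK]
  have cd {K : Subgroup Γ} (hK : K ≤ N_(U)) : Nat.card (K.subgroupOf N_(U)) = Nat.card K := Nat.card_congr (subgroupOfEquivOfLe hK).toEquiv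
  have FR : ⁅F.subgroupOf N_(U), R.subgroupOf N_(U)⁆ = F.subgroupOf N_(U) :=
    map_injective N_(U).subtype_injective (by simp only [map_commutator, mp FY, mp RY, h.FR])
  have pF : IsPGroup 2 (F.subgroupOf N_(U)) := h.pg.comap_subtype
  have pR : IsPGroup r (R.subgroupOf N_(U)) := pg_of_card_eq ((cd RY).trans h.md.cR)
  let a' : N_(U) := ⟨a, aY (mem_zpowers a)⟩
  have fp : j.range ⊓ C_((R.subgroupOf N_(U)).map θ) = ⊥ := eq_bot_iff.2 (by
    rintro _ ⟨⟨x, rfl⟩, k⟩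
    have : (x : Γ) ∈ U ⊓ C_(R) := ⟨x.2, mem_cent.2 fun s hs => by
      have e := cθ ⟨s, RY hs⟩ x
      rw [mem_cent.1 k _ ⟨⟨s, RY hs⟩, hs, rfl⟩, mul_inv_cancel_right] at e
      exact mul_inv_eq_iff_eq_mul.1 (congrArg Subtype.val (jj e)).symm⟩
    rw [fU, mem_bot] at this
    rw [show x = 1 from Subtype.ext this, map_one]; exact one_mem _)
  have cj' : Nat.card j.range = Nat.card U := (Nat.card_congr (MonoidHom.ofInjective jj).toEquiv).symm
  have k := ih _ (hn ▸ card_lt hU) (Γ := T) (V := j.range) (R := (R.subgroupOf N_(U)).map θ) (F := (F.subgroupOf N_(U)).map θ) (a := θ a')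
    { md := ⟨h.md.pp, h.md.p2, h.md.rp, ⟨abelian_iff.2 (le_cent_iff.2 (by
          rintro _ ⟨x, rfl⟩ _ ⟨y, rfl⟩
          rw [← map_mul, ← map_mul]; exact congrArg j (Subtype.ext (mul_comm_of_abelian eU.1 x.2 y.2)))), by
          rintro _ ⟨x, rfl⟩
          rw [← map_pow, show x ^ p = 1 from Subtype.ext (eU.2 _ x.2), map_one]⟩,
        ((Nat.dvd_prime h.md.rp).1 (((cd RY).trans h.md.cR) ▸ card_map_dvd _ θ)).resolve_left fun e => U0 (by
          rw [BG.card_eq_one.1 e, inf_eq_left.2 le_cent_bot] at fp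
          rw [fp, card_bot] at cj'
          exact BG.card_eq_one.1 cj'.symm),
        (map_le_range _ _).trans nV, fp⟩
      FV := (map_le_range _ _).trans nV
      aV := nV ⟨_, rfl⟩
      ff := eq_bot_iff.2 ((inf_le_inf_right _ (sup_le (sup_le (map_le_range _ _) (zpowers_le.2 ⟨_, rfl⟩)) (map_le_range _ _))).trans fV.le)
      pg := pF.map θ
      r2 := h.r2
      FR := by rw [← map_commutator, FR]
      pa := by
        rw [← MonoidHom.map_zpowers]
        refine IsPGroup.map (pg_le (h.pa.comap_subtype (K := N_(U))) (zpowers_le.2 (mem_zpowers a))) θ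
      aR := mem_cent.2 (by
        rintro _ ⟨s, hs, rfl⟩
        rw [← map_mul, ← map_mul]; exact congrArg θ (Subtype.ext (mem_cent.1 h.aR s hs)))
      aF := map_norm (A := zpowers a') (zpowers_le.2 (mem_norm_of_cj_le fun y hy => by
        obtain ⟨x, hx, rfl⟩ := mem_cj'.1 hy
        exact conj_mem_of_norm (K := F) h.aF hx)) θ ⟨a', mem_zpowers _, rfl⟩
      aB := mem_cent.2 fun y hy => by
        obtain ⟨x, hx, rfl⟩ := cmap (FR ▸ right_le_norm_comm _ _) (pg_coprime_ne h.md.rp Nat.prime_two pR pF h.r2)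
          (.inl (pg_sol h.md.rp pR)) θ hy
        rw [← map_mul, ← map_mul]
        exact congrArg θ (Subtype.ext (mem_cent.1 h.aB x ⟨hx.1, mem_cent.2 fun s hs =>
          congrArg Subtype.val (mem_cent.1 hx.2 ⟨s, RY hs⟩ hs)⟩)) } cj'
  refine commutator_le.2 ?_
  rintro f hf _ ⟨m, rfl⟩
  refine ker ⁅(⟨f, FY hf⟩ : N_(U)), a' ^ m⁆ ?_
  rw [map_commutatorElement, map_zpow, commutatorElement_eq_one_iff_commute]
  exact Commute.zpow_right (mem_cent.1 k _ ⟨⟨f, FY hf⟩, hf, rfl⟩) m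

theorem m5 : M5Stmt.{u} := fun _ _ _ _ _ _ _ _ _ h1 h2 h3 h4 h5 h6 h7 h8 h9 h10 h11 =>
  St.main ⟨h1, h2, h3, h4, h5, h6, h7, h8, h9, h10, h11⟩

end H25.MF
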