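import Mathlib
import Cfsg.Agent.H25.PF5
import Cfsg.Agent.H25.PF1b
import Cfsg.Agent.H25.PF7b

/-!
Abstract parts of PF 9.11 (namespace `H25.PF9`): arithmetic, the norm of `Ind 1`, steps 9.11.1 and 9.11.6-9.11.8.
-/

set_option autoImplicit false

open H05 H25 Cfsg
open scoped ComplexConjugate

namespace H25.PF9

theorem pow_bound {a q : ℕ} (ha : 1 ≤ a) (hq : 3 ≤ q) :
    1 + 2 * q * a + q * a ^ 3 + q ^ 2 * a ^ 2 < (2 * a + 1) ^ q := by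
  induction q, hq using Nat.le_induction with
  | base => nlinarith [Nat.one_le_pow 3 a ha, Nat.zero_le (a ^ 2)]
  | succ n hn ih =>
    rw [pow_succ (2 * a + 1)]
    refine lt_of_le_of_lt ?_ (Nat.mul_lt_mul_of_pos_right ih (by omega))
    have h1 : a ^ 3 ≤ n * a ^ 4 := (Nat.pow_le_pow_right ha (by omega)).trans (Nat.le_mul_of_pos_left _ (by omega))
    have h2 : a ^ 2 ≤ n * a ^ 2 := Nat.le_mul_of_pos_left _ (by omega)
    nlinarith [Nat.zero_le (n * a ^ 4), Nat.zero_le (n ^ 2 * a ^ 3), Nat.zero_le (n * a ^ 2)]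

section ind
variable {L : Type*} [Group L] [Fintype L]

theorem ind_one_apply {K N : Subgroup L} [hN : N.Normal] (hle : N ≤ K) {x : L} (hx : x ∈ N) :
    indFun K 1 x = indFun K 1 1 := by
  rw [H06.indFun_apply', H06.indFun_apply']
  refine congrArg _ (Finset.sum_congr rfl fun g _ => ?_)
  rw [H06.extendByZero_of_mem _ _ (hle (hN.conj_mem x hx g)), H06.extendByZero_of_mem _ _ (by simp)]
  rfl

theorem ip_ind_one_sInd {K N X M : Subgroup L} [N.Normal] (hle : N ≤ X) {φ : L → ℂ} (hφ : φ ∈ sInd K N M) :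
    ⟪indFun X 1, φ⟫ = 0 := by
  obtain ⟨θ, hθ, -, hk, rfl⟩ := mem_sInd.1 hφ
  by_contra h0
  rw [H06.frobenius_reciprocity_right _ _ _ (H06.indFun_isClassFunction _ _)] at h0
  exact hk fun a ha => ker_of_constituent
    ((H06.isCharacter_indFun _ isIrrCharacter_one.isCharacter).restrict K) hθ h0 (ind_one_apply hle ha)

theorem nsq_ind_one_le {X Y K : Subgroup L} (h : ∀ g ∉ K, ∀ x ∈ X, g * x * g⁻¹ ∈ X → x ∈ Y) :
    nsq (indFun X 1) * (Nat.card X : ℝ) ^ 2 ≤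
      Nat.card K * Nat.card X + ((Nat.card L : ℝ) - Nat.card K) * Nat.card Y := by
  classical
  have e : ∀ g : L, extendByZero X 1 g = ((if g ∈ X then 1 else 0 : ℝ) : ℂ) := fun g => by
    rw [H06.extendByZero_eq_dite]; split_ifs <;> simp
  have hX : (Nat.card X : ℝ) ≠ 0 := by exact_mod_cast Nat.card_pos.ne'
  have e1 : nsq (indFun X 1) * (Nat.card X : ℝ) ^ 2 = ∑ g : L, ∑ x : X, if g * x * g⁻¹ ∈ X then 1 else 0 := by
    rw [nsq_of_ip (r := (Nat.card X : ℝ)⁻¹ * ∑ x : X, (Nat.card X : ℝ)⁻¹ *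
      ∑ g : L, if g * x * g⁻¹ ∈ X then 1 else 0), ← Finset.mul_sum, Finset.sum_comm]
    · field_simp
    rw [H06.frobenius_reciprocity_right _ _ _ (H06.indFun_isClassFunction _ _), classInner]
    simp only [H06.indFun_apply', e, Pi.one_apply, map_one, mul_one]
    push_cast; rfl
  have e2 : ∀ g : L, (∑ x : X, if g * x * g⁻¹ ∈ X then 1 else 0 : ℝ) ≤
      (if g ∈ K then (Nat.card X : ℝ) - Nat.card Y else 0) + Nat.card Y := fun g => by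
    rw [Finset.sum_boole]
    split_ifs with hg
    · rw [sub_add_cancel, Nat.card_eq_fintype_card]; exact_mod_cast Finset.card_le_univ _
    · rw [zero_add, Nat.card_eq_fintype_card, ← Fintype.card_coe]
      refine Nat.cast_le.2 (Fintype.card_le_of_injective
        (fun x => (⟨x.1, h g hg _ x.1.2 (Finset.mem_filter.1 x.2).2⟩ : Y)) ?_)
      exact fun a b hab => Subtype.ext (Subtype.ext (congrArg (fun y : Y => (y : L)) hab))
  rw [e1]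
  refine (Finset.sum_le_sum fun g _ => e2 g).trans (le_of_eq ?_)
  rw [Finset.sum_add_distrib, ← Finset.sum_filter, Finset.sum_const, Finset.sum_const, Finset.card_univ,
    ← Nat.card_eq_fintype_card, ← Fintype.card_subtype, ← Nat.card_eq_fintype_card]
  simp only [nsmul_eq_mul]; ring

/-- An irreducible character over a linear character of a normal subgroup with abelian quotient. -/
theorem exists_irr_over_lin (N : Subgroup L) [N.Normal] (hab : ∀ x y : L, x * y * x⁻¹ * y⁻¹ ∈ N) (θ : Dual N) :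
    ∃ (χ : L → ℂ) (e : ℕ), IsIrr χ ∧ e ^ 2 ≤ N.relIndex (H06.inertia N fun x => (θ x : ℂ)) ∧
      χ 1 = ((H06.inertia N fun x => (θ x : ℂ)).index * e : ℕ) ∧
      ∀ A : Subgroup L, A.Normal → A ≤ N → ((∀ a ∈ A, χ a = χ 1) ↔ ∀ a : N, (a : L) ∈ A → θ a = 1) := by
  have hθ := isIrrCharacter_monoidHom θ
  obtain ⟨e, C, he, h1, h2, h3, h4⟩ := pf1_7b N _ hθ rfl fun x _ y _ => hab x y
  have hC : 0 < C.card := Nat.pos_of_ne_zero fun h0 =>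
    Subgroup.index_ne_zero_of_finite (h2.symm.trans (by rw [h0, mul_zero]))
  obtain ⟨χ, hχ⟩ := Finset.card_pos.1 hC
  have h5 : ⟪indFun N fun x => (θ x : ℂ), χ⟫ ≠ 0 := by
    have := ip_sum_smul_orth C id (fun _ => 1) (fun a ha b hb hne => (h1 a ha).classInner_of_ne (h1 b hb) hne) hχ
    simp only [one_smul, id, (h1 χ hχ).classInner_self, one_mul] at this
    rw [h3, ip_smul_left, this, mul_one]; exact_mod_cast he.ne'
  refine ⟨χ, e, h1 χ hχ, h2 ▸ Nat.le_mul_of_pos_right _ hC, by rw [h4 χ hχ]; simp, fun A hA hAN =>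
    ⟨fun h a ha => ?_, fun h a ha => ker_of_constituent (H06.isCharacter_indFun _ hθ.isCharacter) (h1 χ hχ) h5
      ((inKer_iff_ind hAN hθ).1 (fun b hb => by simp [h b hb]) a ha)⟩⟩
  rw [H06.frobenius_reciprocity _ _ _ (h1 χ hχ).isClassFunction] at h5
  have := ker_of_constituent ((h1 χ hχ).isCharacter.restrict N) hθ (H06.classInner_ne_zero_comm.1 h5)
    (x := a) (h a ha)
  simpa using this

end ind

variable {L : Type*} [Group L] [Fintype L] {G : Type*} [Group G] [Fintype G] {τ ν : (L → ℂ) →ₗ[ℂ] (G → ℂ)}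
  {R : (L → ℂ) → Finset (G → ℂ)}

/-- PF 9.11.7, 9.11.8. -/
theorem final {S : Set (L → ℂ)} (h : SubCoh S τ R) {S₁ : Finset (L → ℂ)} (hS : ↑S₁ ⊆ S)
    (hc : ∀ χ ∈ S₁, conjFun χ ∈ S₁) (hi : ∀ χ ∈ S₁, IsIrr χ) (hν : CohWith (S₁ : Set (L → ℂ)) τ ν)
    {ψ₁ : L → ℂ} (hψ₁ : ψ₁ ∈ S₁) (hd : ∀ χ ∈ S₁, χ 1 = ψ₁ 1) {m : ℕ} (hm : 1 < m) (hcard : S₁.card = 2 * m)
    {l : L → ℂ} (hl : l ∈ S) (hl' : l ∉ S₁) (hli : IsIrr l) (hld : l 1 = m * ψ₁ 1)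
    {X : G → ℂ} (hX : IsVC X) (hXτ : ∀ δ ∈ zspan S, δ 1 = 0 → ⟪X, τ δ⟫ = -⟪ψ₁, δ⟫)
    (hXR : ∀ α ∈ R l, ⟪X, α⟫ = 0) : Coh (↑S₁ ∪ {l, conjFun l}) τ := by
  classical
  have hβ : l - (m : ℂ) • ψ₁ ∈ zspan S := zspan_sub (mem_zspan hl) (zspan_natCast_smul (mem_zspan (hS hψ₁)) _)
  have hβ1 : (l - (m : ℂ) • ψ₁) 1 = 0 := by simp [hld]
  have ho : ∀ ψ ∈ S₁, ⟪l, ψ⟫ = 0 := fun ψ hψ => h.orth _ hl _ (hS hψ) fun e => hl' (e ▸ hψ)
  have ho' : ⟪ψ₁, conjFun l⟫ = 0 := h.orth _ (hS hψ₁) _ (h.conj_mem _ hl) fun e =>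
    hl' (by simpa [e] using hc _ hψ₁)
  have h11 := (hi _ hψ₁).classInner_self
  set Φ := τ (l - (m : ℂ) • ψ₁) with hΦ
  have hΦv : IsVC Φ := h.vc _ hβ hβ1
  have hsub : ∀ ψ ∈ S₁, ∀ Y : G → ℂ, ⟪Y, ν ψ⟫ = ⟪Y, ν ψ₁⟫ + ⟪Y, τ (ψ - ψ₁)⟫ := fun ψ hψ Y => by
    rw [← hν.eq _ (zspan_sub (mem_zspan hψ) (mem_zspan hψ₁)) (by simp [hd ψ hψ]), map_sub, ip_sub_right]; ring
  have hz : ∀ ψ ∈ S₁, ψ - ψ₁ ∈ zspan S := fun ψ hψ => zspan_sub (mem_zspan (hS hψ)) (mem_zspan (hS hψ₁))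
  obtain ⟨b, hb⟩ := vc_ip_int hΦv (hν.vc _ hψ₁)
  have hb' : ∀ ψ ∈ S₁.erase ψ₁, ⟪Φ, ν ψ⟫ = (b + m : ℤ) := fun ψ hψ => by
    obtain ⟨hne, hψ⟩ := Finset.mem_erase.1 hψ
    rw [hsub ψ hψ, hb, h.iso _ hβ hβ1 _ (hz ψ hψ) (by simp [hd ψ hψ])]
    simp [ip_sub_left, ip_sub_right, ip_smul_left, ho ψ hψ, ho _ hψ₁, h11, h.orth _ (hS hψ₁) _ (hS hψ) hne.symm]
  have h1 := (h.norm hl hΦv (by
    rw [h.iso _ hβ hβ1 _ (h.sub_conj_mem hl) (ch_sub_conj_one (h.isCh _ hl))]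
    simp [ip_sub_left, ip_sub_right, ip_smul_left, h.ip_conj hl, ho', ip_eq_zero_symm (ho _ hψ₁)])).1
  obtain ⟨-, h2⟩ := nsq_eq_proj (R l) id (h.R_orth l hl) (fun α hα => (h.R_sirr l hl α hα).ip_self) Φ
  set Φ' := Φ - ∑ α ∈ R l, ⟪Φ, id α⟫ • id α with hΦ'
  have h3 : ∀ ψ ∈ S₁, ⟪Φ', ν ψ⟫ = ⟪Φ, ν ψ⟫ := fun ψ hψ => by
    rw [hΦ', ip_sub_left, ip_sum_left, Finset.sum_eq_zero fun α hα => by
      rw [ip_smul_left, id, ip_eq_zero_symm (h.coh_orth_R hS hc hν hl hl' hψ hα), mul_zero], sub_zero]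
  obtain ⟨-, h4⟩ := nsq_eq_proj S₁ ν (fun a ha b hb hne => by rw [hν.iso a ha b hb, h.orth _ (hS ha) _ (hS hb) hne])
    (fun a ha => by rw [hν.iso a ha a ha, (hi a ha).classInner_self]) Φ'
  have hcard' : ((S₁.erase ψ₁).card : ℤ) = 2 * m - 1 := by
    rw [Finset.card_erase_of_mem hψ₁, hcard]; omega
  have hcardR : ((S₁.erase ψ₁).card : ℝ) = 2 * m - 1 := by exact_mod_cast hcard'
  have hcardC : ((S₁.erase ψ₁).card : ℂ) = 2 * m - 1 := by exact_mod_cast hcard'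
  rw [← Finset.add_sum_erase _ _ hψ₁, h3 _ hψ₁, hb, Finset.sum_congr rfl (g := fun _ => ((b : ℝ) + m) ^ 2)
    fun ψ hψ => by rw [h3 ψ (Finset.mem_of_mem_erase hψ), hb' ψ hψ, Complex.norm_intCast, sq_abs]; push_cast; rfl,
    Finset.sum_const, nsmul_eq_mul, hcardR, Complex.norm_intCast, sq_abs] at h4
  rw [hΦ, h.nsq_eq hβ hβ1, nsq_sub_of_orth (by rw [ip_smul_right, ho _ hψ₁, mul_zero]), nsq_smul,
    irr_nsq (hi _ hψ₁), Complex.norm_natCast, h4] at h2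
  have h5 : (0 : ℝ) ≤ ((b : ℝ) + m) ^ 2 - (b + m) := by
    exact_mod_cast (by nlinarith [sq_nonneg (2 * (b + m) - 1)] : (0 : ℤ) ≤ (b + m) ^ 2 - (b + m))
  have hm' : (1 : ℝ) < m := by exact_mod_cast hm
  simp only [id] at h2 h1
  have h6 := nsq_nonneg (Φ' - ∑ i ∈ S₁, ⟪Φ', ν i⟫ • ν i)
  have h7 : nsq (Φ' - ∑ i ∈ S₁, ⟪Φ', ν i⟫ • ν i) = 0 := by nlinarith
  have h8 : ((b : ℝ) + m) ^ 2 - (b + m) = 0 := by nlinarith
  have h9 : (b + m) * (b + m - 1) = 0 := by exact_mod_cast (by linarith : ((b : ℝ) + m) * (b + m - 1) = 0)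
  rcases mul_eq_zero.1 h9 with h9 | h9
  · refine h.extend_with hS hc hν hl hl' hψ₁ (a := m) (X := Φ + (m : ℂ) • ν ψ₁) (by exact_mod_cast hld) ?_
      (by simp [hΦ])
    rw [ip_add_left, hb, ip_smul_left, hν.iso _ hψ₁ _ hψ₁, h11, mul_one]; exact_mod_cast h9
  exfalso
  obtain ⟨x, hx⟩ := vc_ip_int hX (hν.vc _ hψ₁)
  have e1 : ⟪X, Φ'⟫ = m := by
    rw [hΦ', ip_sub_right, ip_sum_right, Finset.sum_eq_zero fun α hα => by
      rw [ip_smul_right, id, hXR α hα, mul_zero], hXτ _ hβ hβ1]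
    simp [ip_sub_right, ip_smul_right, h11, ip_eq_zero_symm (ho _ hψ₁)]
  rw [sub_eq_zero.1 (nsq_eq_zero.1 h7), ip_sum_right, ← Finset.add_sum_erase _ _ hψ₁,
    Finset.sum_congr rfl (g := fun _ => (x : ℂ) + 1) fun ψ hψ => by
      obtain ⟨hne, hψ'⟩ := Finset.mem_erase.1 hψ
      rw [ip_smul_right, h3 ψ hψ', hb' ψ hψ, sub_eq_zero.1 h9, hsub ψ hψ', hx,
        hXτ _ (hz ψ hψ') (by simp [hd ψ hψ']), ip_sub_right, h11, h.orth _ (hS hψ₁) _ (hS hψ') hne.symm]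
      simp,
    ip_smul_right, h3 _ hψ₁, hb, hx, Finset.sum_const, nsmul_eq_mul, hcardC, map_intCast] at e1
  have e2 : b * x + (2 * m - 1) * (x + 1) = m := by exact_mod_cast e1
  have e3 : (m : ℤ) * (x + 1) = 1 := by linear_combination e2 - x * h9
  have := Int.le_of_dvd one_pos (Dvd.intro _ e3)
  omega

/-- PF 9.11.6. -/
theorem orth_R {S : Set (L → ℂ)} (h : SubCoh S τ R) {S₃ : Finset (L → ℂ)} (hS : ↑S₃ ⊆ S)
    (hc : ∀ χ ∈ S₃, conjFun χ ∈ S₃) {l : L → ℂ} (hl : l ∈ S₃) (hli : IsIrr l) (hd : ∀ χ ∈ S₃, χ 1 = l 1)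
    {X : G → ℂ} (hX : IsVC X) (hXτ : ∀ χ ∈ S₃, ⟪X, τ (χ - l)⟫ = 0) (hlt : nsq X < ∑ χ ∈ S₃, 1 / nsq χ) :
    ∀ α ∈ R l, ⟪X, α⟫ = 0 := by
  classical
  obtain ⟨ν, hν⟩ := (h.mono hS hc).coh_of_deg fun χ hχ φ hφ => (hd χ hχ).trans (hd φ hφ).symm
  obtain ⟨c, hc'⟩ := vc_ip_int hX (hν.vc _ hl)
  have h1 : ∀ χ ∈ S₃, ⟪X, ν χ⟫ = c := fun χ hχ => by
    have := hXτ χ hχ
    rwa [← hν.eq _ (zspan_sub (mem_zspan hχ) (mem_zspan hl)) (by simp [hd χ hχ]), map_sub, ip_sub_right,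
      hc', sub_eq_zero] at this
  have h2 := bessel' S₃ ν (fun a ha b hb hne => by rw [hν.iso a ha b hb, h.orth _ (hS ha) _ (hS hb) hne])
    (fun a ha e => (nsq_pos (h.ne_zero (hS ha))).ne' (by rw [← hν.nsq_eq ha, e, nsq_zero])) X
  obtain rfl : c = 0 := by
    by_contra h0
    refine absurd ((Finset.sum_le_sum fun χ hχ => ?_).trans h2) hlt.not_ge
    rw [h1 χ hχ, hν.nsq_eq hχ, Complex.norm_intCast, sq_abs]
    exact div_le_div_of_nonneg_right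
      (by exact_mod_cast (by nlinarith [Int.one_le_abs h0, sq_abs c] : (1 : ℤ) ≤ c ^ 2)) (nsq_nonneg _)
  obtain ⟨E, hE, h3, h4⟩ := h.coh_sum hν (hS hl) hl (hc l hl)
  rw [irr_nsq hli] at h3
  obtain ⟨e, rfl⟩ := Finset.card_eq_one.1 (by exact_mod_cast h3 : E.card = 1)
  have h5 : ⟪X, e⟫ = 0 := by simpa [h4] using hc'
  intro α hα
  by_cases h6 : α = e
  · rwa [h6]
  have h7 := h.card_R (hS hl)
  rw [irr_nsq hli, mul_one] at h7
  have h8 : {α, e} = R l := Finset.eq_of_subset_of_card_le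
    (Finset.insert_subset hα hE) (by rw [Finset.card_pair h6]; exact_mod_cast h7.le)
  have h9 := hXτ _ (hc l hl)
  rw [← neg_sub, map_neg, h.sum_eq l (hS hl), ← h8, Finset.sum_pair h6, ip_neg_right, ip_add_right, h5] at h9
  simpa using h9

/-- The maximality argument of PF 9.11.1. -/
theorem exists_max {S S₁ : Finset (L → ℂ)} (h : SubCoh (S : Set (L → ℂ)) τ R) (hS : S₁ ⊆ S)
    (hc : ∀ χ ∈ S₁, conjFun χ ∈ S₁) (hcoh : Coh (S₁ : Set (L → ℂ)) τ) (hn : ¬ Coh (S : Set (L → ℂ)) τ) :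
    ∃ S₂ : Finset (L → ℂ), S₁ ⊆ S₂ ∧ S₂ ⊆ S ∧ (∀ χ ∈ S₂, conjFun χ ∈ S₂) ∧ Coh (S₂ : Set (L → ℂ)) τ ∧
      (∃ χ ∈ S, χ ∉ S₂) ∧ ∀ χ ∈ S, χ ∉ S₂ → ¬ Coh (↑S₂ ∪ {χ, conjFun χ}) τ := by
  classical
  obtain ⟨S₂, h1, h2⟩ := Finset.exists_max_image (S.powerset.filter fun X => S₁ ⊆ X ∧
    (∀ χ ∈ X, conjFun χ ∈ X) ∧ Coh (X : Set (L → ℂ)) τ) Finset.card ⟨S₁, by simpa using ⟨hS, hc, hcoh⟩⟩
  simp only [Finset.mem_filter, Finset.mem_powerset] at h1 h2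
  obtain ⟨h3, h4, h5, h6⟩ := h1
  refine ⟨S₂, h4, h3, h5, h6, by_contra fun h7 => hn (h6.mono fun χ hχ => by_contra fun h8 => h7 ⟨χ, hχ, h8⟩),
    fun χ hχ hχ' h7 => ?_⟩
  refine absurd (h2 (S₂ ∪ {χ, conjFun χ}) ⟨?_, h4.trans Finset.subset_union_left, ?_, by simpa using h7⟩)
    (Finset.card_lt_card ⟨Finset.subset_union_left, fun h8 => hχ' (h8 (by simp))⟩).not_ge
  · exact Finset.union_subset h3 (Finset.insert_subset hχ (by simpa using h.conj_mem χ hχ))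
  · intro φ hφ
    simp only [Finset.mem_union, Finset.mem_insert, Finset.mem_singleton] at hφ ⊢
    rcases hφ with hφ | rfl | rfl
    exacts [Or.inl (h5 φ hφ), Or.inr (Or.inr rfl), Or.inr (Or.inl (conjFun_conjFun _))]

end H25.PF9
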