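import Mathlib
import Cfsg.Prelude.Def_Transfer
import Cfsg.Agent.H14.P24

/-! S5572, tail of part X. -/

set_option autoImplicit false

namespace H25.S5T
open _root_.Cfsg Subgroup

theorem cz : center (Matrix.SpecialLinearGroup (Fin 3) (ZMod 2)) = ⊥ := eq_bot_iff.2 fun A hA => by
  obtain ⟨r, h1, h2⟩ := Matrix.SpecialLinearGroup.mem_center_iff.1 hA
  have : r = 1 := (by decide : ∀ r : ZMod 2, r ^ 3 = 1 → r = 1) r h1
  exact Subtype.ext (by rw [← h2, this]; simp)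

theorem alt (n : ℕ) [NeZero n] (h : 2 ≤ n) : 2 * Nat.card (alternatingGroup (Fin n)) = n.factorial := by
  have : Nontrivial (Fin n) := Fin.nontrivial_iff_two_le.2 h
  rw [two_mul_nat_card_alternatingGroup, Nat.card_perm, Nat.card_eq_fintype_card, Fintype.card_fin]

theorem tail {G : Type*} [Group G] [Finite G] (n9 : ¬ 9 ∣ Nat.card G)
    (h : (∃ (N : Subgroup G) (_ : N.Normal), IsMulCommutative N ∧ (∀ n ∈ N, n ^ 2 = 1) ∧ Nat.card N = 8 ∧
        Nonempty (G ⧸ N ≃* Matrix.ProjectiveSpecialLinearGroup (Fin 3) (ZMod 2))) ∨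
      Nonempty (G ≃* alternatingGroup (Fin 8)) ∨ Nonempty (G ≃* alternatingGroup (Fin 9)) ∨ Cfsg.Spor.IsoM12 G) :
    ∃ (E : Subgroup G) (_ : E.Normal), IsElementaryAbelian 2 E ∧ Nat.card ↥E = 8 ∧
      Nonempty (G ⧸ E ≃* Matrix.SpecialLinearGroup (Fin 3) (ZMod 2)) := by
  rcases h with ⟨N, _, a, b, c, ⟨e⟩⟩ | ⟨⟨e⟩⟩ | ⟨⟨e⟩⟩ | ⟨⟨e⟩⟩
  · exact ⟨N, ‹_›, ⟨a, b⟩, c, ⟨e.trans ((QuotientGroup.quotientMulEquivOfEq cz).trans QuotientGroup.quotientBot)⟩⟩
  · have := alt 8 (by norm_num)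
    rw [← Nat.card_congr e.toEquiv] at this
    simp only [Nat.factorial] at this
    omega
  · have := alt 9 (by norm_num)
    rw [← Nat.card_congr e.toEquiv] at this
    simp only [Nat.factorial] at this
    omega
  · rw [Nat.card_congr e.toEquiv, H14.card_M12] at n9
    omega

end H25.S5T
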